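import Cfsg.Prelude.Def_MonsterType
import Cfsg.Agent.Lib.AltAut.Main
import Mathlib.GroupTheory.SpecificGroups.Alternating.Simple

/-!
The two groups of block permutations: the alternating group of degree 9 and `A₅ ≀ 2`.
-/

set_option autoImplicit false

namespace Cfsg.Agent.Lib.MonsterType.OddType

open Cfsg
open Equiv Equiv.Perm

/-- Three-cycles through an edge generate the alternating group. -/
theorem alternating_le_of_cyc {α : Type*} [Fintype α] [DecidableEq α] {u v : α} (huv : u ≠ v)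
    (K : Subgroup (Perm α)) (hK : ∀ w, w ≠ u → w ≠ v → AltAut.cyc u v w ∈ K) :
    alternatingGroup α ≤ K := by
  rw [← closure_three_cycles_eq_alternating, Subgroup.closure_le]
  intro a ha
  obtain ⟨z, hz⟩ : ∃ z, a z ≠ z := by
    by_contra! hh
    exact (show a.IsThreeCycle from ha).isCycle.ne_one (Perm.ext hh)
  obtain ⟨n1, n2, hA⟩ := AltAut.eq_cyc ha hz
  rw [hA]
  exact AltAut.cyc_mem_closure huv K hK hz.symm n1 n2

theorem eq_bot_of_simple_two {H : Type*} [Group H] [Finite H] [IsSimpleGroup H] {p : ℕ} (hp : p.Prime)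
    (hp2 : p ≠ 2) (hd : p ∣ Nat.card H) {N : Subgroup H} (hN : N.Normal) (h2 : IsPGroup 2 N) : N = ⊥ := by
  haveI : Fact (Nat.Prime 2) := ⟨Nat.prime_two⟩
  rcases hN.eq_bot_or_eq_top with h | h
  · exact h
  · exfalso
    obtain ⟨k, hk⟩ := IsPGroup.iff_card.1 h2
    rw [h, Subgroup.card_top] at hk
    rw [hk] at hd
    exact hp2 ((Nat.prime_dvd_prime_iff_eq hp Nat.prime_two).1 (hp.dvd_of_dvd_pow hd))

theorem no_two_core_alt_nine (N : Subgroup (alternatingGroup (Fin 9))) (hN : N.Normal)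
    (h2 : IsPGroup 2 N) : N = ⊥ := by
  haveI : IsSimpleGroup (alternatingGroup (Fin 9)) := alternatingGroup.isSimpleGroup (by simp)
  refine eq_bot_of_simple_two (p := 3) Nat.prime_three (by norm_num) ?_ hN h2
  rw [nat_card_alternatingGroup, Nat.card_eq_fintype_card, Fintype.card_fin]
  decide

theorem card_alt_nine : Nat.card (alternatingGroup (Fin 9)) = 181440 := by
  rw [nat_card_alternatingGroup, Nat.card_eq_fintype_card, Fintype.card_fin]
  decide

local notation "W" => alternatingFiveWreathTwo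

/-- A pair, acting on the two summands. -/
def pairHom : alternatingGroup (Fin 5) × alternatingGroup (Fin 5) →* Perm (Fin 5 ⊕ Fin 5) :=
  (Perm.sumCongrHom (Fin 5) (Fin 5)).comp
    ((alternatingGroup (Fin 5)).subtype.prodMap (alternatingGroup (Fin 5)).subtype)

theorem pairHom_apply (a : alternatingGroup (Fin 5) × alternatingGroup (Fin 5)) :
    pairHom a = Perm.sumCongr (a.1 : Perm (Fin 5)) (a.2 : Perm (Fin 5)) := rfl

theorem pairHom_mem (a : alternatingGroup (Fin 5) × alternatingGroup (Fin 5)) : pairHom a ∈ W :=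
  Subgroup.subset_closure (Or.inl ⟨a.1, a.2, rfl⟩)

theorem comm_mem : Equiv.sumComm (Fin 5) (Fin 5) ∈ W := Subgroup.subset_closure (Or.inr rfl)

theorem pairHom_injective : Function.Injective pairHom := by
  intro a c h
  rw [pairHom_apply, pairHom_apply] at h
  refine Prod.ext (Subtype.ext (Equiv.ext fun i => ?_)) (Subtype.ext (Equiv.ext fun i => ?_))
  · simpa using Equiv.ext_iff.1 h (Sum.inl i)
  · simpa using Equiv.ext_iff.1 h (Sum.inr i)

theorem comm_pairHom (a : alternatingGroup (Fin 5) × alternatingGroup (Fin 5)) :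
    Equiv.sumComm (Fin 5) (Fin 5) * pairHom a = pairHom (a.2, a.1) * Equiv.sumComm (Fin 5) (Fin 5) := by
  refine Equiv.ext fun x => ?_
  rcases x with i | i <;> rfl

theorem mem_wreath {x : Perm (Fin 5 ⊕ Fin 5)} (hx : x ∈ W) :
    ∃ a, x = pairHom a ∨ x = pairHom a * Equiv.sumComm (Fin 5) (Fin 5) := by
  have hsq : Equiv.sumComm (Fin 5) (Fin 5) * Equiv.sumComm (Fin 5) (Fin 5) =
      (1 : Perm (Fin 5 ⊕ Fin 5)) :=
    Equiv.ext fun x => by rcases x with i | i <;> rfl
  induction hx using Subgroup.closure_induction with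
  | mem x hx =>
    rcases hx with ⟨σ, τ, rfl⟩ | rfl
    · exact ⟨(σ, τ), Or.inl rfl⟩
    · exact ⟨1, Or.inr (by rw [map_one, one_mul])⟩
  | one => exact ⟨1, Or.inl (map_one _).symm⟩
  | mul x y _ _ hx hy =>
    obtain ⟨a, ha | ha⟩ := hx <;> obtain ⟨c, hc | hc⟩ := hy <;> subst ha hc
    · exact ⟨a * c, Or.inl (map_mul _ _ _).symm⟩
    · exact ⟨a * c, Or.inr (by rw [map_mul, mul_assoc])⟩
    · exact ⟨a * (c.2, c.1), Or.inr (by rw [map_mul, mul_assoc, comm_pairHom, ← mul_assoc])⟩
    · exact ⟨a * (c.2, c.1), Or.inl (by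
        rw [map_mul, mul_assoc, ← mul_assoc _ (pairHom c), comm_pairHom, mul_assoc (pairHom (c.2, c.1)),
          hsq, mul_one])⟩
  | inv x _ hx =>
    obtain ⟨a, ha | ha⟩ := hx <;> subst ha
    · exact ⟨a⁻¹, Or.inl (map_inv _ _).symm⟩
    · refine ⟨(a.2⁻¹, a.1⁻¹), Or.inr ?_⟩
      rw [mul_inv_rev, inv_eq_of_mul_eq_one_right hsq, ← map_inv, comm_pairHom]
      rfl

theorem card_wreath_ge : 7200 ≤ Nat.card W := by
  let f : (alternatingGroup (Fin 5) × alternatingGroup (Fin 5)) × Bool → W := fun x =>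
    if x.2 then ⟨pairHom x.1 * Equiv.sumComm (Fin 5) (Fin 5), mul_mem (pairHom_mem _) comm_mem⟩
    else ⟨pairHom x.1, pairHom_mem _⟩
  have hne : ∀ a c, pairHom a ≠ pairHom c * Equiv.sumComm (Fin 5) (Fin 5) := fun a c h => by
    have := Equiv.ext_iff.1 h (Sum.inl 0)
    simp [pairHom_apply] at this
  have hf : Function.Injective f := by
    rintro ⟨a, t⟩ ⟨c, t'⟩ e
    have e' := congrArg Subtype.val e
    cases t <;> cases t' <;> simp only [f, Bool.false_eq_true, if_false, if_true] at e'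
    · rw [pairHom_injective e']
    · exact absurd e' (hne _ _)
    · exact absurd e'.symm (hne _ _)
    · rw [pairHom_injective (mul_right_cancel e')]
  have h60 : Nat.card (alternatingGroup (Fin 5)) = 60 := by
    rw [nat_card_alternatingGroup, Nat.card_eq_fintype_card, Fintype.card_fin]
    decide
  calc 7200 = Nat.card ((alternatingGroup (Fin 5) × alternatingGroup (Fin 5)) × Bool) := by
        rw [Nat.card_prod, Nat.card_prod, h60, Nat.card_eq_fintype_card, Fintype.card_bool]
    _ ≤ _ := Nat.card_le_card_of_injective f hf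

theorem no_two_core_wreath (N : Subgroup W) (hN : N.Normal) (h2 : IsPGroup 2 N) : N = ⊥ := by
  haveI : IsSimpleGroup (alternatingGroup (Fin 5)) := alternatingGroup.isSimpleGroup (by simp)
  have hd : 3 ∣ Nat.card (alternatingGroup (Fin 5)) := by
    rw [nat_card_alternatingGroup, Nat.card_eq_fintype_card, Fintype.card_fin]
    decide
  let ι : alternatingGroup (Fin 5) × alternatingGroup (Fin 5) →* W := pairHom.codRestrict W pairHom_mem
  have hι : Function.Injective ι := fun a c h => pairHom_injective (congrArg Subtype.val h)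
  have hM : N.comap ι = ⊥ := by
    have hMn : (N.comap ι).Normal := hN.comap ι
    have h2M : IsPGroup 2 (N.comap ι) := h2.comap_of_injective ι hι
    have h1 := eq_bot_of_simple_two Nat.prime_three (by norm_num) hd
      (hMn.map (MonoidHom.fst _ _) Prod.fst_surjective) (h2M.map _)
    have h2' := eq_bot_of_simple_two Nat.prime_three (by norm_num) hd
      (hMn.map (MonoidHom.snd _ _) Prod.snd_surjective) (h2M.map _)
    refine (Subgroup.eq_bot_iff_forall _).2 fun a ha => ?_
    exact Prod.ext ((Subgroup.eq_bot_iff_forall _).1 h1 _ ⟨a, ha, rfl⟩)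
      ((Subgroup.eq_bot_iff_forall _).1 h2' _ ⟨a, ha, rfl⟩)
  refine (Subgroup.eq_bot_iff_forall _).2 fun n hn => ?_
  have hbase : ∀ a : alternatingGroup (Fin 5) × alternatingGroup (Fin 5),
      (∃ c, n.1 * pairHom a * n.1⁻¹ = pairHom c) → n * ι a = ι a * n := by
    rintro a ⟨c, hc⟩
    have hmem : n * ι a * n⁻¹ * (ι a)⁻¹ ∈ N := by
      rw [show n * ι a * n⁻¹ * (ι a)⁻¹ = n * (ι a * n⁻¹ * (ι a)⁻¹) by group]
      exact mul_mem hn (hN.conj_mem _ (inv_mem hn) _)
    have e : n * ι a * n⁻¹ * (ι a)⁻¹ = ι (c * a⁻¹) := Subtype.ext (by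
      show n.1 * pairHom a * n.1⁻¹ * (pairHom a)⁻¹ = pairHom (c * a⁻¹)
      rw [hc, map_mul, map_inv])
    rw [e] at hmem
    have h1 : c * a⁻¹ = 1 := (Subgroup.eq_bot_iff_forall _).1 hM _ hmem
    rw [h1, map_one] at e
    exact mul_inv_eq_iff_eq_mul.1 (mul_inv_eq_one.1 e)
  obtain ⟨d, hd' | hd'⟩ := mem_wreath n.2
  · have : n = ι d := Subtype.ext hd'
    rw [this] at hn
    rw [this, (Subgroup.eq_bot_iff_forall _).1 hM _ hn, map_one]
  · exfalso
    let σ : alternatingGroup (Fin 5) := ⟨AltAut.cyc 0 1 2, by rw [mem_alternatingGroup]; decide⟩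
    have e := congrArg Subtype.val (hbase (σ, 1) ⟨d * (1, σ) * d⁻¹, by
      rw [hd', map_mul, map_mul, map_inv, mul_assoc (pairHom d), comm_pairHom]
      group⟩)
    have := Equiv.ext_iff.1 e (Sum.inl 0)
    rw [Subgroup.coe_mul, Subgroup.coe_mul, hd'] at this
    simp [ι, pairHom_apply, σ, AltAut.cyc] at this
    revert this
    decide

end Cfsg.Agent.Lib.MonsterType.OddType
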