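import Cfsg.Agent.Lib.MonsterType.OddType.Hom

/-!
Generators given by a matrix, a permutation and a code word, with computable tests.
-/

set_option autoImplicit false

namespace Cfsg.Agent.Lib.MonsterType.OddType

open Cfsg
open Cfsg.Agent.Lib
open Cfsg.Agent.Lib.Leech

/-- A matrix from a list of rows. -/
def rowsM (rows : List (List ℤ)) : GolayPt → GolayPt → ℤ := fun j i =>
  (rows.getD (Golay.idx j).val []).getD (Golay.idx i).val 0

/-- A word from a mask. -/
def maskW (m : ℕ) : GolayPt → ZMod 2 := fun x => if m.testBit (Golay.idx x).val then 1 else 0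

/-- A permutation from its image list and that of its inverse. -/
def permL {m : ℕ} (hm : 0 < m) (l li : List ℕ) : Equiv.Perm (Fin m) :=
  let f : Fin m → Fin m := fun x => ⟨l.getD x.val 0 % m, Nat.mod_lt _ hm⟩
  let g : Fin m → Fin m := fun x => ⟨li.getD x.val 0 % m, Nat.mod_lt _ hm⟩
  if e : (∀ x, g (f x) = x) ∧ ∀ x, f (g x) = x then ⟨f, g, e.1, e.2⟩ else 1

/-- The number of a class. -/
def classIdx (s : Fin 8 → ZMod 2) : ℕ := ∑ k : Fin 8, (s k).val * 2 ^ k.val

/-- A class from its number. -/
def ofBits (n : ℕ) : Fin 8 → ZMod 2 := fun k => if n.testBit k.val then 1 else 0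

/-- The classes in a list of numbers. -/
def classSet (l : List ℕ) : Finset (Fin 8 → ZMod 2) :=
  Finset.univ.filter fun s => l.contains (classIdx s) = true

theorem mem_classSet {l : List ℕ} {s : Fin 8 → ZMod 2} :
    s ∈ classSet l ↔ l.contains (classIdx s) = true := by simp [classSet]

namespace Spec

variable {S : Spec} (h : S.Ok)

/-- A matrix commuting with the element. -/
structure MatGen (S : Spec) (M : GolayPt → GolayPt → ℤ) : Prop where
  ok : matOk M
  okT : matOk fun i k => M k i
  orth : ∀ j k, (∑ i, M j i * M k i) = if j = k then 64 else 0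
  orth' : ∀ j k, (∑ i, M i j * M i k) = if j = k then 64 else 0
  comm : ∀ i x, M (S.sF i) (S.sF x) = M i x

include h

/-- The automorphism given by a matrix. -/
noncomputable def matC {M : GolayPt → GolayPt → ℤ} (hM : MatGen S M) : cen h :=
  ⟨matCo M hM.ok hM.okT hM.orth hM.orth', (mem_cen_iff h).2 (by
    have hpt : ∀ i, ((matCo M hM.ok hM.okT hM.orth hM.orth' • pt8 i : leechLattice) : GolayPt → ℤ)
        = M i := fun i => by
      show matMap M (vec8 i) = M i
      funext p
      simp only [matMap, matNum, vec8]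
      rw [Finset.sum_eq_single i]
      · rw [Pi.single_eq_same]; omega
      · intro j _ hj; rw [Pi.single_eq_of_ne hj, zero_mul]
      · simp
    have hk : ∀ i, k0 h • pt8 i = pt8 (S.perm i) := fun i => by
      rw [k0, monoCo_smul_pt8]
      simp
    refine co0_ext_pt8 fun i => Subtype.ext (funext fun q => ?_)
    obtain ⟨x, rfl⟩ := S.perm.surjective q
    rw [mul_smul, mul_smul, hk, hpt, k0_smul, hpt, perm_apply h, perm_apply h]
    exact hM.comm i x)⟩

theorem act_matC {M : GolayPt → GolayPt → ℤ} (hM : MatGen S M) (k : Fin 8) :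
    act h (matC h hM) (Pi.single k 1) = S.sig (matMap M (S.combF (Pi.single k 1))) := by
  rw [← coe_repL h]
  rfl

/-- The automorphism given by a permutation. -/
noncomputable def permC {l : List ℕ} (hl : Golay.inM24 l = true)
    (hc : ∀ x, Golay.listFun l (S.sF x) = S.sF (Golay.listFun l x)) : cen h :=
  ⟨monoCo (Golay.toPerm l) (Golay.toPerm_mem_M24 hl) 0 (zero_mem _), (mem_cen_iff h).2 (by
    rw [k0, monoCo_mul, monoCo_mul]
    refine co0_ext_pt8 fun i => ?_
    rw [monoCo_smul_pt8, monoCo_smul_pt8]
    have e : Golay.toPerm l (S.perm i) = S.perm (Golay.toPerm l i) := by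
      rw [perm_apply h, perm_apply h, Golay.toPerm_apply (Golay.inM24.valid hl),
        Golay.toPerm_apply (Golay.inM24.valid hl)]
      exact hc i
    simp [e])⟩

theorem act_permC {l li : List ℕ} (hl : Golay.inM24 l = true)
    (hc : ∀ x, Golay.listFun l (S.sF x) = S.sF (Golay.listFun l x))
    (hli : ∀ x, Golay.listFun l (Golay.listFun li x) = x) (k : Fin 8) :
    act h (permC h hl hc) (Pi.single k 1) =
      S.sig fun x => S.combF (Pi.single k 1) (Golay.listFun li x) := by
  rw [← coe_repL h]
  show S.sig ((monoCo (Golay.toPerm l) (Golay.toPerm_mem_M24 hl) 0 (zero_mem _) •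
    repL h (Pi.single k 1) : leechLattice) : GolayPt → ℤ) = _
  congr 1
  funext x
  rw [monoCo_smul]
  have e : (Golay.toPerm l).symm x = Golay.listFun li x := by
    rw [Equiv.symm_apply_eq, Golay.toPerm_apply (Golay.inM24.valid hl), hli]
  simp [signedPerm, support₂, e]

/-- The automorphism given by a fixed code word. -/
noncomputable def wordC {w : GolayPt → ZMod 2} (hw : w ∈ golayCode) (hc : ∀ x, w (S.sF x) = w x) :
    cen h :=
  ⟨monoCo 1 (one_mem M24) w hw, (mem_cen_iff h).2 (by
    rw [k0, monoCo_mul, monoCo_mul]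
    refine co0_ext_pt8 fun i => ?_
    rw [monoCo_smul_pt8, monoCo_smul_pt8]
    have e : w (S.perm i) = w i := by rw [perm_apply h]; exact hc i
    simp [e])⟩

theorem act_wordC {w : GolayPt → ZMod 2} (hw : w ∈ golayCode) (hc : ∀ x, w (S.sF x) = w x) (k : Fin 8) :
    act h (wordC h hw hc) (Pi.single k 1) =
      S.sig fun x => if w x = 1 then -S.combF (Pi.single k 1) x else S.combF (Pi.single k 1) x := by
  rw [← coe_repL h]
  show S.sig ((monoCo 1 (one_mem M24) w hw • repL h (Pi.single k 1) : leechLattice) : GolayPt → ℤ) = _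
  congr 1
  funext x
  rw [monoCo_smul]
  rcases zmod2_cases (w x) with e | e <;> simp [signedPerm, support₂, e] <;> rfl

end Spec

end Cfsg.Agent.Lib.MonsterType.OddType
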