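import Cfsg.Agent.Lib.MonsterType.OddType.Quot
import Cfsg.Agent.Lib.Golay.ClassCount

/-!
Putting an element of the joint centraliser of two orthogonal central involutions over a given
monomial element.
-/

set_option autoImplicit false

namespace Cfsg.Agent.Lib.MonsterType.OddType

open Cfsg
open Cfsg.Agent.Lib
open Cfsg.Agent.Lib.Leech
open Cfsg.Agent.Lib.LargeExtra

local notation "mk₁" => QuotientGroup.mk' (Subgroup.center Co0)

/-- The image of the stabiliser of the cross in `Co1`. -/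
noncomputable def cross₁ : Subgroup Spor.Co1 := crossStab.map mk₁

/-- The stabiliser onto its image. -/
noncomputable def toCross₁ : crossStab →* cross₁ :=
  ((mk₁).comp crossStab.subtype).codRestrict cross₁ fun c => ⟨c, c.2, rfl⟩

theorem toCross₁_surjective : Function.Surjective toCross₁ := by
  rintro ⟨_, c, hc, rfl⟩
  exact ⟨⟨c, hc⟩, Subtype.ext rfl⟩

theorem toCross₁_ker_le : toCross₁.ker ≤ permPart.ker := by
  intro x hx
  have hx' : (x : Co0) ∈ signs :=
    center_le_signs ((QuotientGroup.eq_one_iff (x : Co0)).1 (congrArg Subtype.val hx :))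
  obtain ⟨y, hy, e⟩ := hx'
  rwa [show x = y from Subtype.ext e.symm]

/-- The permutation part, read in `Co1`. -/
noncomputable def perm₁ : cross₁ →* M24 :=
  toCross₁.liftOfSurjective toCross₁_surjective ⟨permPart, toCross₁_ker_le⟩

theorem perm₁_spec (x : crossStab) : perm₁ (toCross₁ x) = permPart x :=
  MonoidHom.liftOfRightInverse_comp_apply _ _ _ _ x

theorem perm₁_surjective : Function.Surjective perm₁ := fun σ => by
  obtain ⟨x, hx⟩ := permPart_surjective σ
  exact ⟨toCross₁ x, (perm₁_spec x).trans hx⟩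

theorem perm₁_ker_sq {x : cross₁} (hx : perm₁ x = 1) : x * x = 1 := by
  obtain ⟨y, rfl⟩ := toCross₁_surjective x
  rw [perm₁_spec] at hx
  rw [← map_mul, show y * y = 1 from Subtype.ext (signs_sq ⟨y, hx, rfl⟩), map_one]

theorem card_cross₁ : Nat.card cross₁ = 2 ^ 11 * 244823040 := by
  haveI := finite_co0
  have h := toCross₁.ker.card_mul_index
  rw [Subgroup.index_ker, MonoidHom.range_eq_top.2 toCross₁_surjective, Subgroup.card_top,
    card_crossStab] at h
  have hk : toCross₁.ker = (Subgroup.center Co0).subgroupOf crossStab := by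
    ext x
    rw [MonoidHom.mem_ker, Subgroup.mem_subgroupOf, ← QuotientGroup.eq_one_iff]
    exact Subtype.ext_iff
  rw [hk, Nat.card_congr (Subgroup.subgroupOfEquivOfLe (center_le_signs.trans signs_le)).toEquiv,
    card_center] at h
  norm_num at h ⊢
  omega

theorem card_perm₁_ker : Nat.card perm₁.ker = 2 ^ 11 := by
  have h := perm₁.ker.card_mul_index
  rw [Subgroup.index_ker, MonoidHom.range_eq_top.2 perm₁_surjective, Subgroup.card_top,
    card_cross₁, Golay.card_M24] at h
  exact Nat.eq_of_mul_eq_mul_right (by norm_num) h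

section

variable {G : Type*} [Group G] [Finite G] {z : G} {R : Subgroup G} (D : MData z R)

/-- The joint centraliser onto the image of the stabiliser of the cross. -/
theorem exists_chi {g : G} (hgR : g * z * g⁻¹ ∈ R) (hne : g * z * g⁻¹ ≠ z)
    (hl : D.lift (pt8 none) (g * z * g⁻¹)) :
    ∃ χ : ↥(Subgroup.centralizer ({z} : Set G) ⊓ Subgroup.centralizer ({g * z * g⁻¹} : Set G)) →* cross₁,
      Function.Surjective χ ∧ (∀ c, (χ c : Spor.Co1) = D.π (Subgroup.inclusion inf_le_left c)) := by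
  have hmap := map_fix D (setting_of_conj D.good hgR hne) hl
  set X := Subgroup.centralizer ({z} : Set G) ⊓ Subgroup.centralizer ({g * z * g⁻¹} : Set G)
  refine ⟨(D.π.comp (Subgroup.inclusion inf_le_left)).codRestrict cross₁ fun c => ?_, ?_, fun c => rfl⟩
  · rw [cross₁, ← hmap]
    exact Subgroup.mem_map_of_mem D.π
      (show Subgroup.inclusion inf_le_left c ∈ X.subgroupOf _ from c.2)
  · rintro ⟨p, hp⟩
    rw [cross₁, ← hmap] at hp
    obtain ⟨c, hc, rfl⟩ := hp
    exact ⟨⟨c, hc⟩, Subtype.ext rfl⟩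

include D in
/-- The odd part of the order of the joint centraliser is that of `M24`. -/
theorem factorization_joint {g : G} (hgR : g * z * g⁻¹ ∈ R) (hne : g * z * g⁻¹ ≠ z) {p : ℕ}
    (hp : p.Prime) (hp2 : p ≠ 2) :
    (Nat.card ↥(Subgroup.centralizer ({z} : Set G) ⊓
      Subgroup.centralizer ({g * z * g⁻¹} : Set G))).factorization p =
      (244823040 : ℕ).factorization p := by
  have h64 := mem_type64 D (setting_of_conj D.good hgR hne) (D.transport g).card
  obtain ⟨g₀, hl⟩ := exists_recoord D h64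
  obtain ⟨χ, hχ, hspec⟩ := exists_chi (D.recoord g₀) hgR hne hl
  have h := χ.ker.card_mul_index
  rw [Subgroup.index_ker, MonoidHom.range_eq_top.2 hχ, Subgroup.card_top, card_cross₁] at h
  have hd : Nat.card χ.ker ∣ 2 ^ 25 := by
    rw [← D.card]
    let ι : χ.ker →* R :=
      { toFun := fun x => ⟨x.1.1, ((D.recoord g₀).π_eq_one (Subgroup.inclusion inf_le_left x.1)).1
          ((hspec x.1).symm.trans (congrArg Subtype.val x.2))⟩
        map_one' := rfl
        map_mul' := fun _ _ => rfl }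
    exact Subgroup.card_dvd_of_injective ι fun a c e =>
      Subtype.ext (Subtype.ext (congrArg Subtype.val e :))
  obtain ⟨j, -, hj⟩ := (Nat.dvd_prime_pow Nat.prime_two).1 hd
  rw [← h, hj, ← mul_assoc, ← pow_add, Nat.factorization_mul (by positivity) (by norm_num),
    Finsupp.add_apply, Nat.factorization_pow, Finsupp.smul_apply, Nat.Prime.factorization Nat.prime_two,
    Finsupp.single_eq_of_ne hp2, smul_zero, zero_add]

/-- Elements of order `p` over the monomial element, from a conjugacy in `Co1`. -/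
theorem exists_aligned {S : Spec} (h : S.Ok) (D' : MData z R) {Y : Subgroup G} {x : G}
    (hY : Y = Subgroup.zpowers x) (hxz : x ∈ Subgroup.centralizer ({z} : Set G)) (hxp : x ^ S.p = 1)
    (hx1 : D'.π ⟨x, hxz⟩ ≠ 1) {m : Co0} {i : ℕ}
    (hconj : (QuotientGroup.mk m : Spor.Co1) * D'.π ⟨x, hxz⟩ * (QuotientGroup.mk m)⁻¹ =
      QuotientGroup.mk (Spec.k0 h) ^ i) :
    ∃ (D'' : MData z R) (b : ↥(Subgroup.centralizer ({z} : Set G))),
      b ^ S.p = 1 ∧ D''.π b = QuotientGroup.mk (Spec.k0 h) ∧ Y = Subgroup.zpowers (b : G) := by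
  set c : ↥(Subgroup.centralizer ({z} : Set G)) := ⟨x, hxz⟩ with hc
  have hcp : c ^ S.p = 1 := Subtype.ext (by simpa [hc] using hxp)
  have hkp : (QuotientGroup.mk (Spec.k0 h) : Spor.Co1) ^ S.p = 1 := by
    rw [← QuotientGroup.mk_pow, Spec.k0_pow_p, QuotientGroup.mk_one]
  have hi : i.Coprime S.p := by
    refine (h.prime.coprime_iff_not_dvd.2 fun hd => hx1 ?_).symm
    obtain ⟨q, rfl⟩ := hd
    rw [pow_mul, hkp, one_pow, mul_inv_eq_one, mul_eq_left] at hconj
    exact hconj
  obtain ⟨j, hj⟩ := Nat.exists_mul_mod_eq_one_of_coprime hi h.prime.one_lt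
  have hj' : i * j % S.p = 1 := hj.2
  refine ⟨D'.recoord m, c ^ j, by rw [← pow_mul, mul_comm, pow_mul, hcp, one_pow], ?_, ?_⟩
  · show MulAut.conj (QuotientGroup.mk m : Spor.Co1) (D'.π (c ^ j)) = _
    rw [map_pow, map_pow, MulAut.conj_apply, hconj, ← pow_mul, ← Nat.mod_add_div (i * j) S.p, hj',
      pow_add, pow_one, pow_mul, hkp, one_pow, mul_one]
  · rw [hY, SubgroupClass.coe_pow]
    refine le_antisymm (Subgroup.zpowers_le.2 ?_) (Subgroup.zpowers_le.2 (Subgroup.npow_mem_zpowers x j))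
    have e : (x ^ j) ^ i = x := by
      rw [← pow_mul, mul_comm, ← Nat.mod_add_div (i * j) S.p, hj', pow_add, pow_one, pow_mul, hxp,
        one_pow, mul_one]
    exact Subgroup.mem_zpowers_iff.2 ⟨i, by rw [zpow_natCast]; exact e⟩

omit [Finite G] in
/-- An element of the 3-centre of the centraliser of `rep3f6` is central in a Sylow subgroup. -/
theorem central_of_hom {X : Subgroup G} [Finite G] (χ : X →* M24) (hχ : Function.Surjective χ)
    (hker : IsPGroup 2 χ.ker) {y : X} (hy : y ^ 3 = 1)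
    (hC : (Subgroup.centralizer ({χ y} : Set M24)).index % 3 ≠ 0) :
    ∃ P : Sylow 3 X, y ∈ (P : Subgroup X) ∧ ∀ a ∈ (P : Subgroup X), a * y = y * a := by
  haveI : Fact (Nat.Prime 3) := ⟨Nat.prime_three⟩
  set K := (Subgroup.centralizer ({χ y} : Set M24)).comap χ
  have hyK : y ∈ K := Subgroup.mem_centralizer_singleton_iff.2 rfl
  have hpy : IsPGroup 3 (Subgroup.zpowers (⟨y, hyK⟩ : K)) := by
    rintro ⟨q, i, rfl⟩
    refine ⟨1, Subtype.ext ?_⟩
    show ((⟨y, hyK⟩ : K) ^ i) ^ 3 ^ 1 = 1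
    rw [pow_one, ← zpow_natCast ((⟨y, hyK⟩ : K) ^ i), ← zpow_mul, mul_comm, zpow_mul, zpow_natCast,
      show (⟨y, hyK⟩ : K) ^ 3 = 1 from Subtype.ext hy, one_zpow]
  obtain ⟨P, hP⟩ := hpy.exists_le_sylow
  have hcard : Nat.card ((P : Subgroup K).map K.subtype) = 3 ^ (Nat.card X).factorization 3 := by
    rw [Subgroup.card_map_of_injective K.subtype_injective, P.card_eq_multiplicity,
      ← K.card_mul_index, Nat.factorization_mul Nat.card_pos.ne' (Subgroup.index_ne_zero_of_finite),
      Finsupp.add_apply, Subgroup.index_comap_of_surjective _ hχ,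
      Nat.factorization_eq_zero_of_not_dvd (n := (Subgroup.centralizer ({χ y} : Set M24)).index)
        (p := 3) (fun hd => hC (Nat.mod_eq_zero_of_dvd hd)), add_zero]
  refine ⟨Sylow.ofCard _ hcard, ⟨⟨y, hyK⟩, hP (Subgroup.mem_zpowers _), rfl⟩, ?_⟩
  rintro _ ⟨a, ha, rfl⟩
  have hyP : (⟨y, hyK⟩ : K) ∈ (P : Subgroup K) := hP (Subgroup.mem_zpowers _)
  set u : K := a * ⟨y, hyK⟩ * a⁻¹ * (⟨y, hyK⟩ : K)⁻¹
  have hu : u ∈ (P : Subgroup K) := mul_mem (mul_mem (mul_mem ha hyP) (inv_mem ha)) (inv_mem hyP)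
  have huk : (u : X) ∈ χ.ker := by
    have hac := Subgroup.mem_centralizer_singleton_iff.1 (Subgroup.mem_comap.1 a.2)
    rw [MonoidHom.mem_ker]
    simp only [u, Subgroup.coe_mul, Subgroup.coe_inv, map_mul, map_inv]
    rw [hac, mul_inv_cancel_right, mul_inv_cancel]
  obtain ⟨e, he⟩ := P.isPGroup' ⟨u, hu⟩
  obtain ⟨f, hf⟩ := hker ⟨_, huk⟩
  have hu1 : (u : X) = 1 := by
    have h1 : (u : X) ^ 3 ^ e = 1 := by simpa using congrArg (fun q : (P : Subgroup K) => ((q.1 : K) : X)) he
    have h2 : (u : X) ^ 2 ^ f = 1 := by simpa using congrArg Subtype.val hf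
    have := pow_gcd_eq_one.2 ⟨h1, h2⟩
    rwa [show Nat.gcd (3 ^ e) (2 ^ f) = 1 from Nat.Coprime.pow e f (by norm_num), pow_one] at this
  exact mul_inv_eq_iff_eq_mul.1 (mul_inv_eq_one.1 (show (a : X) * y * (a : X)⁻¹ * y⁻¹ = 1 from hu1))

end

end Cfsg.Agent.Lib.MonsterType.OddType
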