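import Cfsg.Agent.Lib.MonsterType.OddLift
import Cfsg.Agent.Lib.MonsterType.MatCo
import Cfsg.Agent.Lib.MonsterType.CrossImage
import Cfsg.Agent.Lib.Golay.Perm

/-!
An element of odd prime order of `M24` whose fixed classes in the lattice modulo twice itself form a
space of dimension 8, given by a certificate.
-/

set_option autoImplicit false

namespace Cfsg.Agent.Lib.MonsterType.OddType

open Cfsg
open Cfsg.Agent.Lib
open Cfsg.Agent.Lib.Leech

/-- The data: the image list of the permutation, the orbit of each point, and vectors constant on the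
orbits separating and spanning the fixed classes. -/
structure Spec where
  /-- The prime. -/
  p : ℕ
  /-- The image list. -/
  sl : List ℕ
  /-- The orbit of each point. -/
  orbT : List ℕ
  /-- The probes. -/
  probes : List (List ℤ)
  /-- The basis. -/
  basis : List (List ℤ)

namespace Spec

variable (S : Spec)

/-- The orbit of a point. -/
def orb (x : GolayPt) : Fin 8 := Fin.ofNat 8 (S.orbT.getD (Golay.idx x).val 0)

/-- A vector constant on the orbits. -/
def spread {α : Type*} (v : Fin 8 → α) : GolayPt → α := fun x => v (S.orb x)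

/-- The permutation, computably. -/
def sF : GolayPt → GolayPt := Golay.listFun S.sl

/-- Values listed on the orbits. -/
def vals (l : List ℤ) : Fin 8 → ℤ := fun k => l.getD k.val 0

/-- The probes. -/
def probe (k : Fin 8) : GolayPt → ℤ := S.spread (vals (S.probes.getD k.val []))

/-- The basis. -/
def bvec (k : Fin 8) : GolayPt → ℤ := S.spread (vals (S.basis.getD k.val []))

/-- The values of a vector on the probes. -/
def sig (x : GolayPt → ℤ) : Fin 8 → ZMod 2 := fun k => ((dotInt x (S.probe k) / 8 : ℤ) : ZMod 2)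

/-- A combination of the basis. -/
def combF (s : Fin 8 → ZMod 2) : GolayPt → ℤ := fun x => ∑ k, ((s k).val : ℤ) * S.bvec k x

/-- The sum over the powers of the permutation. -/
def avg (g : GolayPt → ℤ) : GolayPt → ℤ := fun x => ∑ i ∈ Finset.range S.p, g (S.sF^[i] x)

/-- Congruence test. -/
def congT (x y : GolayPt → ℤ) : Bool :=
  decide (∀ i, (x i - y i) % 2 = 0) && leechChk fun i => (x i - y i) / 2

/-- The test that a sum over powers has the class of its values. -/
def avgT (g : GolayPt → ℤ) : Bool := congT (S.avg g) (S.combF (S.sig (S.avg g)))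

/-- The certificate. -/
structure Ok : Prop where
  prime : S.p.Prime
  ne_two : S.p ≠ 2
  inM : Golay.inM24 S.sl = true
  orb_sF : ∀ x, S.orb (S.sF x) = S.orb x
  period : ∀ x, S.sF^[S.p] x = x
  moves : ∃ x, S.sF x ≠ x
  conn : ∀ x y, S.orb x = S.orb y → ∃ i : Fin S.p, S.sF^[i.val] x = y
  leech : ∀ k, leechChk (S.probe k) = true ∧ leechChk (S.bvec k) = true
  dual : ∀ k j, S.sig (S.bvec k) j = if j = k then 1 else 0
  span : (∀ i, S.avgT (vec44 i) = true) ∧ (∀ t, S.avgT (lift2 (qrWord t)) = true) ∧
    S.avgT (lift2 1) = true ∧ S.avgT (vec31 none) = true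

variable {S} (h : S.Ok)

/-- The permutation. -/
noncomputable def perm (S : Spec) : Equiv.Perm GolayPt := Golay.toPerm S.sl

include h

theorem perm_mem : S.perm ∈ M24 := Golay.toPerm_mem_M24 h.inM

theorem perm_apply (x : GolayPt) : S.perm x = S.sF x := Golay.toPerm_apply (Golay.inM24.valid h.inM) x

theorem perm_pow_apply (n : ℕ) (x : GolayPt) : (S.perm ^ n) x = S.sF^[n] x := by
  induction n with
  | zero => rfl
  | succ n ih => rw [pow_succ', Equiv.Perm.mul_apply, ih, perm_apply h, Function.iterate_succ_apply']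

theorem perm_pow : S.perm ^ S.p = 1 :=
  Equiv.ext fun x => by rw [perm_pow_apply h, h.period]; rfl

theorem perm_ne_one : S.perm ≠ 1 := fun e => by
  obtain ⟨x, hx⟩ := h.moves
  exact hx (by rw [← perm_apply h, e]; rfl)

theorem orb_perm (x : GolayPt) : S.orb (S.perm x) = S.orb x := by rw [perm_apply h, h.orb_sF]

theorem const_of_inv {α : Type*} {w : GolayPt → α} (hw : ∀ x, w (S.perm x) = w x) {x y : GolayPt}
    (e : S.orb x = S.orb y) : w x = w y := by
  obtain ⟨i, rfl⟩ := h.conn x y e
  generalize i.val = n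
  induction n with
  | zero => rfl
  | succ n ih => rw [Function.iterate_succ_apply', ← perm_apply h, hw, ← ih]

/-- The automorphism. -/
noncomputable def k0 : Co0 := monoCo S.perm (perm_mem h) 0 (zero_mem _)

theorem k0_smul (v : leechLattice) (x : GolayPt) :
    ((k0 h • v : leechLattice) : GolayPt → ℤ) (S.perm x) = (v : GolayPt → ℤ) x := by
  rw [k0, monoCo_smul]
  simp [signedPerm, support₂]

theorem k0_pow_eq (n : ℕ) :
    k0 h ^ n = monoCo (S.perm ^ n) (pow_mem (perm_mem h) n) 0 (zero_mem _) := by
  have e := map_pow perms ⟨S.perm, perm_mem h⟩ n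
  simp only [perms, MonoidHom.coe_mk, OneHom.coe_mk, SubmonoidClass.coe_pow] at e
  exact e.symm

theorem k0_pow_smul (n : ℕ) (v : leechLattice) (x : GolayPt) :
    ((k0 h ^ n • v : leechLattice) : GolayPt → ℤ) ((S.perm ^ n) x) = (v : GolayPt → ℤ) x := by
  rw [k0_pow_eq, monoCo_smul]
  simp [signedPerm, support₂]

theorem k0_pow_p : k0 h ^ S.p = 1 := by
  rw [k0_pow_eq]
  refine co0_ext_pt8 fun x => ?_
  rw [monoCo_smul_pt8, one_smul, perm_pow h]
  simp

theorem negCo_pow_p : negCo ^ S.p = negCo := by
  obtain ⟨m, hm⟩ := h.prime.odd_of_ne_two h.ne_two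
  rw [hm, pow_succ, pow_mul, pow_two, signs_sq negCo_mem_signs, one_pow, one_mul]

theorem mk_k0_ne_one : (QuotientGroup.mk (k0 h) : Spor.Co1) ≠ 1 := by
  intro e
  rcases center_cases ((QuotientGroup.eq_one_iff (k0 h)).1 e) with r | r
  · refine perm_ne_one h (monoCo_injective (hσ := perm_mem h) (hσ' := one_mem M24)
      (hw₁ := zero_mem _) (hw₂ := zero_mem _) (w := 0) (w' := 0) ?_).1
    refine r.trans (co0_ext fun v => ?_)
    rw [monoCo_smul, one_smul]
    funext x
    simp [signedPerm, support₂]
    rfl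
  · have h7 := k0_pow_p h
    rw [r, negCo_pow_p h] at h7
    exact negCo_ne_one h7

theorem fixed_of_spread {v : leechLattice} {r : Fin 8 → ℤ} (e : (v : GolayPt → ℤ) = S.spread r) :
    k0 h • v = v := by
  refine Subtype.ext (funext fun x => ?_)
  obtain ⟨y, rfl⟩ := S.perm.surjective x
  rw [k0_smul, e, spread, spread, orb_perm h]

/-- The probes as lattice vectors. -/
def probeL (k : Fin 8) : leechLattice := ⟨S.probe k, leechChk_sound (h.leech k).1⟩

/-- The basis as lattice vectors. -/
def bvecL (k : Fin 8) : leechLattice := ⟨S.bvec k, leechChk_sound (h.leech k).2⟩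

/-- The representative with given values. -/
def repL (s : Fin 8 → ZMod 2) : leechLattice := ∑ k, ((s k).val : ℤ) • bvecL h k

theorem coe_repL (s : Fin 8 → ZMod 2) : ((repL h s : leechLattice) : GolayPt → ℤ) = S.combF s := by
  funext x
  rw [repL, AddSubgroup.val_finsetSum, Finset.sum_apply]
  exact Finset.sum_congr rfl fun k _ => by simp [bvecL]

theorem k0_repL (s : Fin 8 → ZMod 2) : k0 h • repL h s = repL h s := by
  rw [repL, smul_sum']
  exact Finset.sum_congr rfl fun k _ => by rw [smul_zsmul', fixed_of_spread h (v := bvecL h k) (r := vals (S.basis.getD k.val [])) rfl]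

theorem cong_of_congT {v w : leechLattice}
    (e : congT (v : GolayPt → ℤ) (w : GolayPt → ℤ) = true) : Cong v w := by
  simp only [congT, Bool.and_eq_true, decide_eq_true_eq] at e
  refine ⟨⟨_, leechChk_sound e.2⟩, Subtype.ext (funext fun i => ?_)⟩
  simp only [AddSubgroup.coe_add, Pi.add_apply]
  have := e.1 i
  omega

theorem sig_add {x y : GolayPt → ℤ} (hx : x ∈ leechLattice) (hy : y ∈ leechLattice) :
    S.sig (x + y) = S.sig x + S.sig y := by
  funext k
  obtain ⟨a, ha⟩ := Leech.dotInt_dvd hx (probeL h k).2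
  obtain ⟨b, hb⟩ := Leech.dotInt_dvd hy (probeL h k).2
  simp only [probeL] at ha hb
  simp only [sig, Pi.add_apply]
  rw [dotInt_add_left, ha, hb, ← Int.cast_add]
  congr 1
  omega

/-- The values, as an additive map on the lattice. -/
def sigHom : leechLattice →+ (Fin 8 → ZMod 2) :=
  AddMonoidHom.mk' (fun v => S.sig (v : GolayPt → ℤ)) fun v w => sig_add h v.2 w.2

theorem sigHom_apply (v : leechLattice) : sigHom h v = S.sig (v : GolayPt → ℤ) := rfl

theorem sig_cong {v w : leechLattice} (e : Cong v w) : sigHom h v = sigHom h w := by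
  obtain ⟨x, rfl⟩ := e
  rw [map_add, map_add]
  funext k
  simp only [Pi.add_apply]
  rw [CharTwo.add_self_eq_zero, add_zero]

theorem sig_repL (s : Fin 8 → ZMod 2) : sigHom h (repL h s) = s := by
  rw [repL, map_sum]
  funext j
  rw [Finset.sum_apply, Finset.sum_eq_single j]
  · rw [map_zsmul, Pi.smul_apply, sigHom_apply, bvecL, h.dual, if_pos rfl]
    rcases zmod2_cases (s j) with e | e <;> rw [e] <;> decide
  · intro k _ hk
    rw [map_zsmul, Pi.smul_apply, sigHom_apply, bvecL, h.dual, if_neg (Ne.symm hk), smul_zero]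
  · simp

theorem repL_zero : repL h 0 = 0 := by simp [repL]

theorem cong_repL_add (s t : Fin 8 → ZMod 2) : Cong (repL h s + repL h t) (repL h (s + t)) := by
  rw [repL, repL, repL, ← Finset.sum_add_distrib]
  refine cong_sum _ fun k _ => ?_
  have hv := ZMod.val_add (s k) (t k)
  refine ⟨((((s k).val + (t k).val) / 2 : ℕ) : ℤ) • bvecL h k, ?_⟩
  rw [Pi.add_apply, ← add_smul, ← add_smul, ← add_smul]
  congr 1
  rw [hv]
  omega

theorem avg_sum (g : leechLattice) :
    ((∑ i ∈ Finset.range S.p, k0 h ^ i • g : leechLattice) : GolayPt → ℤ) =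
      S.avg (g : GolayPt → ℤ) := by
  funext x
  rw [AddSubgroup.val_finsetSum, Finset.sum_apply, avg]
  have hneg : ∀ i ∈ Finset.range S.p, ((k0 h ^ i • g : leechLattice) : GolayPt → ℤ) x =
      (g : GolayPt → ℤ) (S.sF^[(S.p - i) % S.p] x) := by
    intro i hi
    have hi' := Finset.mem_range.1 hi
    have e : x = (S.perm ^ i) (S.sF^[(S.p - i) % S.p] x) := by
      rw [← perm_pow_apply h, ← Equiv.Perm.mul_apply, ← pow_add]
      rcases Nat.eq_zero_or_pos i with r | r
      · subst r; rw [Nat.sub_zero, Nat.mod_self, add_zero, pow_zero]; rfl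
      · rw [Nat.mod_eq_of_lt (by omega), show i + (S.p - i) = S.p by omega, perm_pow h]; rfl
    conv_lhs => rw [e]
    rw [k0_pow_smul]
  rw [Finset.sum_congr rfl hneg]
  refine Finset.sum_nbij' (fun i => (S.p - i) % S.p) (fun i => (S.p - i) % S.p) ?_ ?_ ?_ ?_ ?_
  · intro i _; exact Finset.mem_range.2 (Nat.mod_lt _ h.prime.pos)
  · intro i _; exact Finset.mem_range.2 (Nat.mod_lt _ h.prime.pos)
  all_goals intro i hi
  all_goals first
    | rfl
    | (have hi' := Finset.mem_range.1 hi
       rcases Nat.eq_zero_or_pos i with r | r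
       · subst r; simp
       · rw [Nat.mod_eq_of_lt (show S.p - i < S.p by omega), Nat.mod_eq_of_lt (by omega)]; omega)

/-- A fixed vector is congruent to the representative with its values. -/
theorem cong_rep {v : leechLattice} (hv : Cong (k0 h • v) v) : Cong v (repL h (sigHom h v)) := by
  let P : AddSubgroup (GolayPt → ℤ) :=
    { carrier := {x | ∃ hx : x ∈ leechLattice, Cong (∑ i ∈ Finset.range S.p, k0 h ^ i • (⟨x, hx⟩ : leechLattice))
        (repL h (sigHom h (∑ i ∈ Finset.range S.p, k0 h ^ i • (⟨x, hx⟩ : leechLattice))))}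
      add_mem' := by
        rintro a b ⟨ha, ca⟩ ⟨hb, cb⟩
        refine ⟨add_mem ha hb, ?_⟩
        rw [show (⟨a + b, add_mem ha hb⟩ : leechLattice) = ⟨a, ha⟩ + ⟨b, hb⟩ from rfl]
        simp only [smul_add', Finset.sum_add_distrib, map_add]
        exact (cong_add ca cb).trans (cong_repL_add h _ _)
      zero_mem' := by
        refine ⟨zero_mem _, ?_⟩
        rw [show (⟨0, zero_mem _⟩ : leechLattice) = 0 from rfl]
        simp only [smul_zero', Finset.sum_const_zero, map_zero, repL_zero]
        exact cong_refl _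
      neg_mem' := by
        rintro a ⟨ha, ca⟩
        refine ⟨neg_mem ha, ?_⟩
        rw [show (⟨-a, neg_mem ha⟩ : leechLattice) = -⟨a, ha⟩ from rfl]
        simp only [smul_neg', Finset.sum_neg_distrib]
        rw [sig_cong h (cong_neg _)]
        exact (cong_neg _).trans ca }
  have hgen : AddSubgroup.closure leechGen ≤ P := by
    refine (AddSubgroup.closure_le _).2 ?_
    have key : ∀ g, g ∈ leechLattice → S.avgT g = true → g ∈ P := by
      intro g hg e
      refine ⟨hg, cong_of_congT h ?_⟩
      rw [coe_repL, sigHom_apply, avg_sum]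
      exact e
    rintro _ ((⟨i, rfl⟩ | ⟨t, rfl⟩) | rfl | rfl)
    exacts [key _ (vec44_mem i) (h.span.1 i), key _ ((leechChk_sound (Bool.and_eq_true _ _ ▸ xi_check.2.2.1 t).1)) (h.span.2.1 t),
      key _ ((leechChk_sound (Bool.and_eq_true _ _ ▸ xi_check.2.2.2).1)) h.span.2.2.1, key _ (vec31_mem none) h.span.2.2.2]
  have hmem : (v : GolayPt → ℤ) ∈ P := hgen (mem_closure_leechGen v.2)
  obtain ⟨hx, hall⟩ := hmem
  have hi : ∀ i, Cong (k0 h ^ i • v) v := by
    intro i
    induction i with
    | zero => rw [pow_zero, one_smul]; exact cong_refl v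
    | succ i ih => rw [pow_succ', mul_smul]; exact (ih.smul _).trans hv
  have hsum : Cong (∑ i ∈ Finset.range S.p, k0 h ^ i • v) v := by
    refine (cong_sum _ fun i _ => hi i).trans ?_
    rw [Finset.sum_const, Finset.card_range]
    obtain ⟨m, hm⟩ := h.prime.odd_of_ne_two h.ne_two
    exact ⟨m • v, by rw [hm, add_nsmul, one_nsmul, two_mul, add_nsmul, add_comm]⟩
  rw [← sig_cong h hsum]
  exact hsum.symm.trans hall

theorem cong_of_sig {v w : leechLattice} (hv : Cong (k0 h • v) v) (hw : Cong (k0 h • w) w)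
    (e : sigHom h v = sigHom h w) : Cong v w :=
  (cong_rep h hv).trans (e ▸ (cong_rep h hw).symm)

/-- The centraliser of the automorphism. -/
noncomputable def cen : Subgroup Co0 := Subgroup.centralizer {k0 h}

theorem mem_cen_iff {c : Co0} : c ∈ cen h ↔ c * k0 h = k0 h * c :=
  Subgroup.mem_centralizer_singleton_iff

theorem fixed_smul (c : cen h) {v : leechLattice} (hv : Cong (k0 h • v) v) :
    Cong (k0 h • ((c : Co0) • v)) ((c : Co0) • v) := by
  rw [← mul_smul, ← (mem_cen_iff h).1 c.2, mul_smul]
  exact hv.smul _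

theorem cong_k0_repL (s : Fin 8 → ZMod 2) : Cong (k0 h • repL h s) (repL h s) := by
  rw [k0_repL]; exact cong_refl _

/-- The action on the fixed classes. -/
noncomputable def act (c : cen h) (s : Fin 8 → ZMod 2) : Fin 8 → ZMod 2 :=
  sigHom h ((c : Co0) • repL h s)

theorem act_sig (c : cen h) {v : leechLattice} (hv : Cong (k0 h • v) v) :
    act h c (sigHom h v) = sigHom h ((c : Co0) • v) :=
  (sig_cong h ((cong_rep h hv).smul _)).symm

theorem act_add (c : cen h) (s t : Fin 8 → ZMod 2) : act h c (s + t) = act h c s + act h c t := by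
  rw [act, act, act, ← map_add, ← smul_add']
  exact sig_cong h ((cong_repL_add h s t).symm.smul _)

theorem act_mul (c d : cen h) (s : Fin 8 → ZMod 2) : act h (c * d) s = act h c (act h d s) := by
  rw [act, Subgroup.coe_mul, mul_smul, ← act_sig h c (fixed_smul h d (cong_k0_repL h s))]
  rfl

theorem act_one (s : Fin 8 → ZMod 2) : act h 1 s = s := by
  rw [act, OneMemClass.coe_one, one_smul, sig_repL]

theorem act_inv_act (c : cen h) (s : Fin 8 → ZMod 2) : act h c⁻¹ (act h c s) = s := by
  rw [← act_mul, inv_mul_cancel, act_one]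

theorem act_injective (c : cen h) : Function.Injective (act h c) :=
  Function.LeftInverse.injective (act_inv_act h c)

theorem negCo_mem_cen : negCo ∈ cen h :=
  (mem_cen_iff h).2 (Subgroup.mem_center_iff.1 negCo_mem_center (k0 h)).symm

theorem k0_mem_cen : k0 h ∈ cen h := (mem_cen_iff h).2 rfl

theorem act_negCo (s : Fin 8 → ZMod 2) : act h ⟨negCo, negCo_mem_cen h⟩ s = s := by
  rw [act, negCo_smul, sig_cong h (cong_neg _), sig_repL]

theorem act_k0 (s : Fin 8 → ZMod 2) : act h ⟨k0 h, k0_mem_cen h⟩ s = s := by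
  rw [act, k0_repL, sig_repL]

end Spec

end Cfsg.Agent.Lib.MonsterType.OddType
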