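import Cfsg.Agent.Lib.MonsterType.OddType.Fix
import Cfsg.Agent.Lib.Leech.ModTwo
import Cfsg.Agent.Lib.Golay.Classes
import Cfsg.Agent.S5551

/-!
The centraliser of the automorphism, from generators permuting a family of blocks of classes: it maps
onto the group of block permutations, the kernel being generated by negation and the automorphism.
-/

set_option autoImplicit false
set_option maxHeartbeats 400000

namespace Cfsg.Agent.Lib.MonsterType.OddType

open Cfsg
open Cfsg.Agent.Lib
open Cfsg.Agent.Lib.Leech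

/-- A class with a representative of squared length 64 is not one of a shorter length. -/
theorem not_cong_short {v w : leechLattice} (hv : sqNorm (v : GolayPt → ℤ) = 64)
    (hw : sqNorm (w : GolayPt → ℤ) = 0 ∨ sqNorm (w : GolayPt → ℤ) = 32 ∨
      sqNorm (w : GolayPt → ℤ) = 48) : ¬ Cong v w := by
  intro h
  have hv0 : (v : GolayPt → ℤ) ≠ 0 := fun e => by rw [e, Leech.sqNorm_zero] at hv; norm_num at hv
  obtain ⟨x, hx⟩ := h
  have hd : (v : GolayPt → ℤ) - (w : GolayPt → ℤ) = (2 : ℕ) • (x : GolayPt → ℤ) := by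
    rw [hx, AddSubgroup.coe_add, AddSubgroup.coe_add, two_nsmul]; abel
  rcases hw with hw | hw
  · have hw0 : (w : GolayPt → ℤ) = 0 := Leech.sqNorm_eq_zero hw
    rw [hw0, sub_zero] at hd
    have hx0 : (x : GolayPt → ℤ) ≠ 0 := fun e => hv0 (by rw [hd, e, smul_zero])
    have := Leech.sqNorm_min x.2 hx0
    rw [hd, S5551.sqNorm_two_smul] at hv
    omega
  · have hw0 : (w : GolayPt → ℤ) ≠ 0 := fun e => by rw [e, Leech.sqNorm_zero] at hw; omega
    have := (S5551.result _ _ v.2 w.2 hv0 hw0 hv.le (by omega) ⟨_, x.2, hd⟩).1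
    omega

namespace Spec

variable {S : Spec} (h : S.Ok)

include h

/-- The action as a linear map. -/
noncomputable def actLin (c : cen h) : (Fin 8 → ZMod 2) →ₗ[ZMod 2] (Fin 8 → ZMod 2) :=
  (AddMonoidHom.mk' (act h c) (act_add h c)).toZModLinearMap 2

theorem act_eq_sum (c : cen h) (s : Fin 8 → ZMod 2) :
    act h c s = fun j => ∑ k, s k * act h c (Pi.single k 1) j := by
  show actLin h c s = _
  conv_lhs => rw [pi_eq_sum_univ s, map_sum]
  funext j
  rw [Finset.sum_apply]
  refine Finset.sum_congr rfl fun k _ => ?_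
  rw [map_smul, Pi.smul_apply, smul_eq_mul]
  have e : (fun i => if k = i then (1 : ZMod 2) else 0) = Pi.single k 1 := funext fun i => by
    simp [Pi.single_apply, eq_comm]
  rw [e]
  rfl

end Spec

/-- The action of a matrix given by the images of the unit vectors. -/
def matAct (A : Fin 8 → Fin 8 → ZMod 2) (s : Fin 8 → ZMod 2) : Fin 8 → ZMod 2 :=
  fun j => ∑ k, s k * A k j

/-- Invariant words must be orthogonal to the code. -/
def wordTest (S : Spec) (u : Fin 8 → ZMod 2) : Bool :=
  decide (∀ t, (∑ i, qrWord t i * S.spread u i) = 0)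

/-- The certificate of the block action. -/
structure Blocks (S : Spec) (h : S.Ok) (β : Type) [Fintype β] [DecidableEq β] (n : ℕ)
    (T : Subgroup (Equiv.Perm β)) where
  /-- The classes of squared length 64. -/
  omega : Finset (Fin 8 → ZMod 2)
  /-- The blocks. -/
  blk : β → Finset (Fin 8 → ZMod 2)
  /-- The generators. -/
  gen : Fin n → Spec.cen h
  /-- Their matrices. -/
  mat : Fin n → Fin 8 → Fin 8 → ZMod 2
  /-- Their permutations of the blocks. -/
  prm : Fin n → Equiv.Perm β
  gen_act : ∀ i k, Spec.act h (gen i) (Pi.single k 1) = mat i k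
  blk_inj : Function.Injective blk
  prm_spec : ∀ i b, ((blk b).image (matAct (mat i))) = blk (prm i b)
  prm_gen : Subgroup.closure (Set.range prm) = T
  short : ∀ s, s ∉ omega → ∃ y : GolayPt → ℤ, (sqNorm y = 0 ∨ sqNorm y = 32 ∨ sqNorm y = 48) ∧
    leechChk y = true ∧ Spec.congT y (S.combF s) = true
  words : (Finset.univ.filter fun u : Fin 8 → ZMod 2 => wordTest S u).card ≤ 16
  bound : omega.card * (Nat.card (Golay.Classes.centM24 S.sl) * 16) ≤ 2 * S.p * Nat.card T

namespace Blocks

variable {S : Spec} {h : S.Ok} {β : Type} [Fintype β] [DecidableEq β] {n : ℕ}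
  {T : Subgroup (Equiv.Perm β)} (B : Blocks S h β n T)

/-- The permutation induced. -/
def Induces (c : Spec.cen h) (π : Equiv.Perm β) : Prop :=
  ∀ b, (B.blk b).image (Spec.act h c) = B.blk (π b)

include B

theorem induces_unique {c : Spec.cen h} {π π' : Equiv.Perm β} (h1 : B.Induces c π)
    (h2 : B.Induces c π') : π = π' :=
  Equiv.ext fun b => B.blk_inj ((h1 b).symm.trans (h2 b))

theorem induces_one_of_trivial {c : Spec.cen h} (e : ∀ s, Spec.act h c s = s) : B.Induces c 1 :=
  fun b => by rw [show Spec.act h c = id from funext e, Finset.image_id]; rfl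

theorem induces_mul {c d : Spec.cen h} {π π' : Equiv.Perm β} (h1 : B.Induces c π)
    (h2 : B.Induces d π') : B.Induces (c * d) (π * π') := fun b => by
  rw [show Spec.act h (c * d) = Spec.act h c ∘ Spec.act h d from funext (Spec.act_mul h c d),
    ← Finset.image_image, h2, h1]
  rfl

theorem induces_inv {c : Spec.cen h} {π : Equiv.Perm β} (h1 : B.Induces c π) :
    B.Induces c⁻¹ π⁻¹ := fun b => by
  have e := h1 (π⁻¹ b)
  rw [show π (π⁻¹ b) = b from Equiv.apply_symm_apply π b] at e
  rw [← e, Finset.image_image,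
    show Spec.act h c⁻¹ ∘ Spec.act h c = id from funext (Spec.act_inv_act h c), Finset.image_id]

theorem induces_gen (i : Fin n) : B.Induces (B.gen i) (B.prm i) := fun b => by
  rw [← B.prm_spec i b]
  refine Finset.image_congr fun s _ => ?_
  rw [Spec.act_eq_sum h]
  funext j
  exact Finset.sum_congr rfl fun k _ => by rw [B.gen_act]

/-- The elements inducing a permutation. -/
def perming : Subgroup (Spec.cen h) where
  carrier := {c | ∃ π ∈ T, B.Induces c π}
  one_mem' := ⟨1, one_mem T, B.induces_one_of_trivial (Spec.act_one h)⟩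
  mul_mem' := fun ⟨π, hT, hπ⟩ ⟨π', hT', hπ'⟩ => ⟨π * π', mul_mem hT hT', B.induces_mul hπ hπ'⟩
  inv_mem' := fun ⟨π, hT, hπ⟩ => ⟨π⁻¹, inv_mem hT, B.induces_inv hπ⟩

/-- The map on it. -/
noncomputable def phi0 : B.perming →* Equiv.Perm β where
  toFun c := c.2.choose
  map_one' := B.induces_unique (1 : B.perming).2.choose_spec.2
    (B.induces_one_of_trivial (Spec.act_one h))
  map_mul' a c := B.induces_unique (a * c).2.choose_spec.2
    (B.induces_mul a.2.choose_spec.2 c.2.choose_spec.2)

theorem phi0_eq {c : B.perming} {π : Equiv.Perm β} (e : B.Induces c π) : B.phi0 c = π :=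
  B.induces_unique c.2.choose_spec.2 e

theorem range_phi0 : B.phi0.range = T := by
  refine le_antisymm ?_ ((le_of_eq B.prm_gen.symm).trans ((Subgroup.closure_le _).2 ?_))
  · rintro _ ⟨c, rfl⟩
    exact c.2.choose_spec.1
  · rintro _ ⟨i, rfl⟩
    exact ⟨⟨B.gen i, B.prm i, le_of_eq B.prm_gen (Subgroup.subset_closure ⟨i, rfl⟩), B.induces_gen i⟩,
      B.phi0_eq (B.induces_gen i)⟩

/-- The central element of order `2 p`. -/
noncomputable def zz : Spec.cen h :=
  ⟨negCo, Spec.negCo_mem_cen h⟩ * ⟨Spec.k0 h, Spec.k0_mem_cen h⟩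

omit B in
theorem act_zz (s : Fin 8 → ZMod 2) : Spec.act h (zz (h := h)) s = s := by
  rw [zz, Spec.act_mul, Spec.act_k0, Spec.act_negCo]

omit B in
theorem orderOf_zz : orderOf (zz (h := h)) = 2 * S.p := by
  have h2 : orderOf negCo = 2 :=
    orderOf_eq_prime (by rw [pow_two]; exact signs_sq negCo_mem_signs) negCo_ne_one
  haveI : Fact S.p.Prime := ⟨h.prime⟩
  have hp : orderOf (Spec.k0 h) = S.p :=
    orderOf_eq_prime (Spec.k0_pow_p h) fun e => Spec.mk_k0_ne_one h (by rw [e]; rfl)
  have hcop : (2 : ℕ).Coprime S.p := (Nat.coprime_primes Nat.prime_two h.prime).2 (Ne.symm h.ne_two)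
  have := (show Commute negCo (Spec.k0 h) from
    (Subgroup.mem_center_iff.1 negCo_mem_center (Spec.k0 h)).symm).orderOf_mul_eq_mul_orderOf_of_coprime
    (by rw [h2, hp]; exact hcop)
  rw [h2, hp] at this
  rw [← this]
  exact (orderOf_injective (Spec.cen h).subtype (Spec.cen h).subtype_injective _).symm

theorem zz_mem_perming : zz (h := h) ∈ B.perming := ⟨1, one_mem T, B.induces_one_of_trivial act_zz⟩

theorem mem_omega_of_norm {s : Fin 8 → ZMod 2} {v : leechLattice}
    (hv : sqNorm (v : GolayPt → ℤ) = 64) (hc : Cong v (Spec.repL h s)) : s ∈ B.omega := by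
  by_contra hs
  obtain ⟨y, hy, hyL, hyc⟩ := B.short s hs
  refine not_cong_short hv (w := ⟨y, leechChk_sound hyL⟩) hy (hc.trans ?_)
  refine (Spec.cong_of_congT h (v := ⟨y, leechChk_sound hyL⟩) ?_).symm
  rw [Spec.coe_repL]
  exact hyc

theorem card_cen_le :
    Nat.card (Spec.cen h) ≤ B.omega.card * (Nat.card (Golay.Classes.centM24 S.sl) * 16) := by
  haveI := finite_co0
  letI : MulAction (Spec.cen h) (Fin 8 → ZMod 2) :=
    { smul := Spec.act h
      one_smul := Spec.act_one h
      mul_smul := Spec.act_mul h }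
  have hfix : Cong (Spec.k0 h • pt8 none) (pt8 none) := by
    rw [Spec.k0, monoCo_smul_pt8]
    simpa using cong_pt8 _
  set p0 := Spec.sigHom h (pt8 none) with hp0
  rw [← (MulAction.stabilizer (Spec.cen h) p0).index_mul_card]
  refine Nat.mul_le_mul ?_ ?_
  · rw [MulAction.index_stabilizer, ← Set.ncard_coe_finset]
    refine Set.ncard_le_ncard ?_ (Finset.finite_toSet _)
    rintro _ ⟨c, rfl⟩
    refine Finset.mem_coe.2 (B.mem_omega_of_norm (v := (c : Co0) • pt8 none)
      ((sqNorm_smul _ _).trans (sqNorm_vec8 none)) ?_)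
    have := Spec.cong_rep h (Spec.fixed_smul h c hfix)
    rwa [← Spec.act_sig h c hfix] at this
  · have key : ∀ c : MulAction.stabilizer (Spec.cen h) p0, ∃ τ u,
        ∃ (hτ : τ ∈ Golay.Classes.centM24 S.sl) (hu : S.spread u ∈ golayCode),
          ((c : Spec.cen h) : Co0) =
            monoCo τ (Golay.Classes.mem_centM24.1 hτ).1 (S.spread u) hu := by
      rintro ⟨c, hc⟩
      have hmem : (c : Co0) ∈ crossStab :=
        Spec.cong_of_sig h (Spec.fixed_smul h c hfix) hfix
          ((Spec.act_sig h c hfix).symm.trans (MulAction.mem_stabilizer_iff.1 hc))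
      obtain ⟨τ, hτ, w, hw, e⟩ := exists_mono_of_mem_crossStab hmem
      have hrel := (Spec.mem_cen_iff h).1 c.2
      rw [e, Spec.k0, monoCo_mul, monoCo_mul] at hrel
      obtain ⟨h1, h2⟩ := monoCo_injective hrel
      have hinv : ∀ x, w (S.perm x) = w x := fun x => by
        have := congrFun h2 (S.perm x)
        simpa using this
      have horb : ∀ x y, S.orb x = S.orb y → w x = w y := by
        intro x y exy
        exact Spec.const_of_inv h hinv exy
      let u : Fin 8 → ZMod 2 := fun k =>
        if hk : ∃ x, S.orb x = k then w hk.choose else 0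
      have hwu : w = S.spread u := funext fun x => by
        have hk : ∃ y, S.orb y = S.orb x := ⟨x, rfl⟩
        simp only [Spec.spread, u, dif_pos hk]
        exact horb _ _ hk.choose_spec.symm
      obtain ⟨v, rfl⟩ : ∃ v, w = S.spread v := ⟨_, hwu⟩
      exact ⟨τ, v, Golay.Classes.mem_centM24.2 ⟨hτ, h1⟩, hw, e⟩
    choose τ u hτ hu e using key
    let f : MulAction.stabilizer (Spec.cen h) p0 →
        Golay.Classes.centM24 S.sl × ↥(Finset.univ.filter fun u : Fin 8 → ZMod 2 => wordTest S u) :=
      fun c => ⟨⟨τ c, hτ c⟩, u c, Finset.mem_filter.2 ⟨Finset.mem_univ _, decide_eq_true fun t =>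
        code_dot (Submodule.subset_span (Set.mem_union_left _ ⟨t, rfl⟩)) (hu c)⟩⟩
    have hf : Function.Injective f := by
      intro a c eac
      have e1 : τ a = τ c := congrArg (fun x => ((x.1 : Golay.Classes.centM24 S.sl) : Equiv.Perm GolayPt)) eac
      have e2 : u a = u c := congrArg (fun x => (x.2 : Fin 8 → ZMod 2)) eac
      refine Subtype.ext (Subtype.ext ?_)
      rw [e a, e c]
      congr 1
      rw [e2]
    refine (Nat.card_le_card_of_injective f hf).trans ?_
    rw [Nat.card_prod, Nat.card_eq_finsetCard]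
    exact Nat.mul_le_mul_left _ B.words

theorem perming_eq_top : B.perming = ⊤ ∧ Nat.card B.phi0.ker = 2 * S.p := by
  haveI := finite_co0
  have hle : Nat.card (Subgroup.zpowers (⟨zz, B.zz_mem_perming⟩ : B.perming)) ≤ Nat.card B.phi0.ker :=
    Subgroup.card_le_of_le (Subgroup.zpowers_le.2 (B.phi0_eq (B.induces_one_of_trivial act_zz)))
  rw [Nat.card_zpowers,
    show orderOf (⟨zz, B.zz_mem_perming⟩ : B.perming) = 2 * S.p from
      (orderOf_injective B.perming.subtype B.perming.subtype_injective _).symm.trans orderOf_zz] at hle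
  have hmul := B.phi0.ker.card_mul_index
  rw [Subgroup.index_ker, B.range_phi0] at hmul
  have hsub := Subgroup.card_le_card_group B.perming
  have hbound := B.card_cen_le.trans B.bound
  have hT : 0 < Nat.card T := Nat.card_pos
  have hker : Nat.card B.phi0.ker = 2 * S.p := by
    refine le_antisymm ?_ hle
    nlinarith
  refine ⟨Subgroup.eq_top_of_le_card _ ?_, hker⟩
  rw [← hmul, hker]
  exact hbound

omit B in
/-- The inclusion into the permuting elements. -/
noncomputable def toPerming (B : Blocks S h β n T) : Spec.cen h →* B.perming :=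
  (MonoidHom.id _).codRestrict B.perming fun c => by
    rw [B.perming_eq_top.1]; exact Subgroup.mem_top c

omit B in
/-- The map onto the block permutations. -/
noncomputable def phi (B : Blocks S h β n T) : Spec.cen h →* T :=
  (B.phi0.comp B.toPerming).codRestrict T fun c => le_of_eq B.range_phi0 ⟨B.toPerming c, rfl⟩

theorem phi_surjective : Function.Surjective B.phi := by
  rintro ⟨π, hπ⟩
  rw [← B.range_phi0] at hπ
  obtain ⟨c, rfl⟩ := hπ
  exact ⟨c.1, Subtype.ext (congrArg B.phi0 (Subtype.ext rfl))⟩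

theorem phi_of_trivial {c : Spec.cen h} (e : ∀ s, Spec.act h c s = s) : B.phi c = 1 :=
  Subtype.ext (B.phi0_eq (c := B.toPerming c) (B.induces_one_of_trivial e))

/-- The kernel is generated by negation and the automorphism. -/
theorem phi_eq_one {c : Spec.cen h} (e : B.phi c = 1) : c ∈ Subgroup.zpowers (zz (h := h)) := by
  haveI := finite_co0
  have hk : B.toPerming c ∈ B.phi0.ker := MonoidHom.mem_ker.2 (congrArg Subtype.val e)
  have heq : Subgroup.zpowers (⟨zz, B.zz_mem_perming⟩ : B.perming) = B.phi0.ker := by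
    refine Subgroup.eq_of_le_of_card_ge
      (Subgroup.zpowers_le.2 (B.phi0_eq (B.induces_one_of_trivial act_zz))) ?_
    rw [B.perming_eq_top.2, Nat.card_zpowers,
      show orderOf (⟨zz, B.zz_mem_perming⟩ : B.perming) = 2 * S.p from
        (orderOf_injective B.perming.subtype B.perming.subtype_injective _).symm.trans orderOf_zz]
  rw [← heq] at hk
  obtain ⟨i, hi⟩ := hk
  exact ⟨i, congrArg Subtype.val hi⟩

end Blocks

end Cfsg.Agent.Lib.MonsterType.OddType
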