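import Cfsg.Agent.Lib.MonsterType.OddQuot
import Cfsg.Agent.Lib.MonsterType.OddType.Hom

/-!
The centraliser of an element `b` over the automorphism, modulo `⟨b⟩`: the centraliser of the image
of `z` has an extraspecial subgroup of order `2^9` with quotient the group of block permutations.
-/

set_option autoImplicit false

namespace Cfsg.Agent.Lib.MonsterType.OddType

open Cfsg
open Cfsg.Agent.Lib
open Cfsg.Agent.Lib.Leech
open Cfsg.Agent.Lib.LargeExtra

variable {S : Spec} {h : S.Ok} {β : Type} [Fintype β] [DecidableEq β] {n : ℕ}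
  {T : Subgroup (Equiv.Perm β)}

namespace Blocks

variable (B : Blocks S h β n T)

/-- The centraliser of the automorphism, in `Co1`. -/
noncomputable def cen₁ (h : S.Ok) : Spec.cen h →* Spor.Co1 :=
  (QuotientGroup.mk' (Subgroup.center Co0)).comp (Spec.cen h).subtype

theorem cen₁_ker_le : (cen₁ h).rangeRestrict.ker ≤ B.phi.ker := by
  intro x hx
  rw [MonoidHom.ker_rangeRestrict, MonoidHom.mem_ker] at hx
  rcases center_cases ((QuotientGroup.eq_one_iff (x : Co0)).1 hx) with r | r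
  · rw [show x = 1 from Subtype.ext r]; exact one_mem _
  · rw [show x = ⟨negCo, Spec.negCo_mem_cen h⟩ from Subtype.ext r, MonoidHom.mem_ker]
    exact B.phi_of_trivial (Spec.act_negCo h)

/-- The map onto the block permutations, read in `Co1`. -/
noncomputable def phi₁ : (cen₁ h).range →* T :=
  (cen₁ h).rangeRestrict.liftOfSurjective (cen₁ h).rangeRestrict_surjective ⟨B.phi, B.cen₁_ker_le⟩

theorem phi₁_spec (x : Spec.cen h) : B.phi₁ ((cen₁ h).rangeRestrict x) = B.phi x :=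
  MonoidHom.liftOfRightInverse_comp_apply _ _ _ _ x

end Blocks

section

variable (B : Blocks S h β n T) {G : Type*} [Group G] [Finite G] {z : G} {R : Subgroup G}
  (D : MData z R) {b : ↥(Subgroup.centralizer ({z} : Set G))} (hbp : b ^ S.p = 1)
  (hπ : D.π b = QuotientGroup.mk (Spec.k0 h))

omit [Finite G] in
theorem hzb (b : ↥(Subgroup.centralizer ({z} : Set G))) : z * (b : G) = b * z :=
  (Subgroup.mem_centralizer_singleton_iff.1 b.2).symm

theorem coe_pow_eq_one {b : ↥(Subgroup.centralizer ({z} : Set G))} (hbp : b ^ S.p = 1) :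
    (b : G) ^ S.p = 1 := by
  simpa using congrArg Subtype.val hbp

include D hbp hπ

theorem cz_le_cen {c : ↥(Subgroup.centralizer ({z} : Set G))} (hcb : c * b = b * c) {k : Co0}
    (hk : D.π c = QuotientGroup.mk k) : k ∈ Spec.cen h :=
  haveI : Fact S.p.Prime := ⟨h.prime⟩
  (Spec.mem_cen_iff h).2 (comm_of_centralizing D h.ne_two hbp hπ (Spec.k0_pow_p h) hcb hk)

theorem pi_mem_range (c : cz z (b : G)) :
    D.π (Subgroup.inclusion inf_le_left c) ∈ (Blocks.cen₁ h).range := by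
  obtain ⟨k, hk⟩ := QuotientGroup.mk_surjective (D.π (Subgroup.inclusion inf_le_left c))
  exact ⟨⟨k, cz_le_cen D hbp hπ (Subtype.ext (OddQuot.mem_cz_iff.1 c.2).2) hk.symm⟩, hk⟩

/-- The action of the joint centraliser. -/
noncomputable def toT : cz z (b : G) →* T :=
  B.phi₁.comp ((D.π.comp (Subgroup.inclusion inf_le_left)).codRestrict (Blocks.cen₁ h).range
    (pi_mem_range D hbp hπ))

theorem toT_eq {c : cz z (b : G)} {k : Spec.cen h}
    (hk : D.π (Subgroup.inclusion inf_le_left c) = QuotientGroup.mk (k : Co0)) :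
    toT B D hbp hπ c = B.phi k := by
  rw [← B.phi₁_spec]
  exact congrArg B.phi₁ (Subtype.ext hk)

theorem toT_surjective : Function.Surjective (toT B D hbp hπ) := by
  haveI : Fact S.p.Prime := ⟨h.prime⟩
  intro g
  obtain ⟨k, rfl⟩ := B.phi_surjective g
  obtain ⟨c, hc, hcb⟩ := exists_lift D h.ne_two hbp hπ (Spec.mk_k0_ne_one h) (k' := k)
    (n := 1) (fun hd => h.prime.one_lt.ne' (Nat.dvd_one.1 hd))
    (by rw [(Spec.mem_cen_iff h).1 k.2, mul_inv_cancel_right, pow_one])
  rw [pow_one] at hcb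
  exact ⟨⟨c, OddQuot.mem_cz_iff.2 ⟨Subgroup.mem_centralizer_singleton_iff.1 c.2,
    conj_eq_iff_comm.1 (congrArg Subtype.val hcb)⟩⟩, toT_eq B D hbp hπ hc⟩

theorem toT_eq_one_iff (c : cz z (b : G)) :
    toT B D hbp hπ c = 1 ↔ ∃ i : ℤ, (c : G) * ((b : G) ^ i)⁻¹ ∈ R := by
  have hb : ∀ i : ℤ, toT B D hbp hπ (⟨(b : G), OddQuot.b_mem_cz (hzb b)⟩ ^ i) = 1 := fun i => by
    rw [map_zpow, toT_eq B D hbp hπ (k := ⟨Spec.k0 h, Spec.k0_mem_cen h⟩) hπ,
      B.phi_of_trivial (Spec.act_k0 h), one_zpow]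
  constructor
  · intro he
    obtain ⟨k, hk⟩ := QuotientGroup.mk_surjective (D.π (Subgroup.inclusion inf_le_left c))
    have hkc := cz_le_cen D hbp hπ (Subtype.ext (OddQuot.mem_cz_iff.1 c.2).2) hk.symm
    rw [toT_eq B D hbp hπ (k := ⟨k, hkc⟩) hk.symm] at he
    obtain ⟨i, hi⟩ := Subgroup.mem_zpowers_iff.1 (B.phi_eq_one he)
    refine ⟨i, ?_⟩
    have hzz : (QuotientGroup.mk ((Blocks.zz (h := h) : Spec.cen h) : Co0) : Spor.Co1) = D.π b := by
      rw [hπ, Blocks.zz, Subgroup.coe_mul, QuotientGroup.mk_mul,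
        (QuotientGroup.eq_one_iff negCo).2 negCo_mem_center, one_mul]
    have hπc : D.π (Subgroup.inclusion inf_le_left c) = D.π b ^ i := by
      rw [← hk, ← hzz, show k = ((Blocks.zz (h := h) : Spec.cen h) : Co0) ^ i from
        (congrArg Subtype.val hi.symm).trans (SubgroupClass.coe_zpow _ _), QuotientGroup.mk_zpow]
    have := (D.π_eq_one (Subgroup.inclusion inf_le_left c * (b ^ i)⁻¹)).1
      (by rw [map_mul, map_inv, map_zpow, hπc, mul_inv_cancel])
    simpa using this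
  · rintro ⟨i, hi⟩
    let q : cz z (b : G) := c * (⟨(b : G), OddQuot.b_mem_cz (hzb b)⟩ ^ i)⁻¹
    have hq : toT B D hbp hπ q = 1 := by
      rw [toT_eq B D hbp hπ (k := 1), map_one]
      rw [OneMemClass.coe_one, QuotientGroup.mk_one, D.π_eq_one]
      simpa [q] using hi
    rw [map_mul, map_inv, hb, inv_one, mul_one] at hq
    exact hq

/-- Elements of `R` commuting with `b` are lifts of representatives. -/
theorem commute_iff {q : G} (hq : q ∈ R) :
    q * (b : G) = b * q ↔ ∃ s, D.lift (Spec.repL h s) q := by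
  haveI : Fact S.p.Prime := ⟨h.prime⟩
  rw [commute_iff_fixed D h.ne_two hbp hπ (Spec.k0_pow_p h) hq]
  constructor
  · rintro ⟨v, hv, hl⟩
    exact ⟨_, (D.lift_cong hl _).2 (Spec.cong_rep h (hv.symm ▸ cong_refl _)).symm⟩
  · rintro ⟨s, hs⟩
    exact ⟨_, Spec.k0_repL h s, hs⟩

omit hbp hπ in
theorem lift_repL_unique {s t : Fin 8 → ZMod 2} {q : G} (hs : D.lift (Spec.repL h s) q)
    (ht : D.lift (Spec.repL h t) q) : s = t := by
  have := Spec.sig_cong h ((D.lift_cong ht _).1 hs)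
  rwa [Spec.sig_repL, Spec.sig_repL] at this

theorem mem_cz_of_lift {s : Fin 8 → ZMod 2} {q : G} (hs : D.lift (Spec.repL h s) q) :
    q ∈ cz z (b : G) :=
  OddQuot.mem_cz_iff.2 ⟨D.good.le_cent q (D.lift_mem hs),
    (commute_iff D hbp hπ (D.lift_mem hs)).2 ⟨s, hs⟩⟩

/-- The centraliser of `b` in `R` has order `2^9`. -/
theorem card_fix : Nat.card (R.subgroupOf (cz z (b : G))) = 2 ^ 9 := by
  choose X hX using fun s => D.lift_left (Spec.repL h s)
  have hXz : ∀ (s : Fin 8 → ZMod 2) (t : Bool),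
      D.lift (Spec.repL h s) (if t then X s * z else X s) := by
    intro s t
    cases t
    · exact hX s
    · exact (D.lift_pair (hX s) _).2 (Or.inr rfl)
  let f : (Fin 8 → ZMod 2) × Bool → R.subgroupOf (cz z (b : G)) := fun a =>
    ⟨⟨_, mem_cz_of_lift D hbp hπ (hXz a.1 a.2)⟩, D.lift_mem (hXz a.1 a.2)⟩
  have hf : Function.Bijective f := by
    constructor
    · rintro ⟨s, t⟩ ⟨s', t'⟩ e
      have e' : (if t then X s * z else X s) = if t' then X s' * z else X s' :=
        congrArg (fun q : R.subgroupOf (cz z (b : G)) => ((q : cz z (b : G)) : G)) e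
      obtain rfl : s = s' := lift_repL_unique D (hXz s t) (e' ▸ hXz s' t')
      have hz := D.good.x_ne
      cases t <;> cases t' <;> simp at e' ⊢ <;> exact absurd e' (by simpa using hz)
    · rintro ⟨⟨q, hqc⟩, hq⟩
      obtain ⟨s, hs⟩ := (commute_iff D hbp hπ hq).1 (OddQuot.mem_cz_iff.1 hqc).2
      rcases (D.lift_pair (hX s) _).1 hs with r | r
      · exact ⟨(s, false), Subtype.ext (Subtype.ext r.symm)⟩
      · exact ⟨(s, true), Subtype.ext (Subtype.ext r.symm)⟩
  rw [← Nat.card_eq_of_bijective f hf]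
  simp

/-- Only `1` and `z` commute with the whole centraliser. -/
theorem centre_fix {a : G} (ha : a ∈ R) (hab : a * (b : G) = b * a)
    (hc : ∀ q ∈ R, q * (b : G) = b * q → a * q = q * a) : a = 1 ∨ a = z := by
  obtain ⟨s, hs⟩ := (commute_iff D hbp hπ ha).1 hab
  by_cases hs0 : s = 0
  · rw [hs0, Spec.repL_zero] at hs
    exact (D.lift_zero_iff a).1 hs
  exfalso
  obtain ⟨k, hk⟩ : ∃ k, s k ≠ 0 := Function.ne_iff.1 hs0
  haveI : Fact S.p.Prime := ⟨h.prime⟩
  obtain ⟨q, hq⟩ := D.lift_left (Spec.probeL h k)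
  have hqb : q * (b : G) = b * q :=
    (commute_iff_fixed D h.ne_two hbp hπ (Spec.k0_pow_p h) (D.lift_mem hq)).2
      ⟨_, Spec.fixed_of_spread h (r := Spec.vals (S.probes.getD k.val [])) rfl, hq⟩
  obtain ⟨c, hcd⟩ := (D.comm_iff hs hq).1 (hc q (D.lift_mem hq) hqb).symm
  refine hk ((congrFun (Spec.sig_repL h s) k).symm.trans ?_)
  show ((dotInt (Spec.repL h s : GolayPt → ℤ) (S.probe k) / 8 : ℤ) : ZMod 2) = 0
  rw [ZMod.intCast_zmod_eq_zero_iff_dvd]
  exact ⟨c, by rw [show dotInt (Spec.repL h s : GolayPt → ℤ) (S.probe k) = 16 * c from hcd]; omega⟩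

/-- Elements centralising the centraliser of `b` in `R` act trivially. -/
theorem toT_of_centralizing {c : cz z (b : G)}
    (hc : ∀ q ∈ R, q * (b : G) = b * q → (c : G) * q = q * c) : toT B D hbp hπ c = 1 := by
  obtain ⟨k, hk⟩ := QuotientGroup.mk_surjective (D.π (Subgroup.inclusion inf_le_left c))
  have hkc := cz_le_cen D hbp hπ (Subtype.ext (OddQuot.mem_cz_iff.1 c.2).2) hk.symm
  rw [toT_eq B D hbp hπ (k := ⟨k, hkc⟩) hk.symm]
  refine B.phi_of_trivial fun s => ?_
  obtain ⟨q, hq⟩ := D.lift_left (Spec.repL h s)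
  have hcq := hc q (D.lift_mem hq) ((commute_iff D hbp hπ (D.lift_mem hq)).2 ⟨_, hq⟩)
  have hl := D.lift_conj _ k hk.symm hq
  rw [Subgroup.coe_inclusion, hcq, mul_inv_cancel_right] at hl
  rw [Spec.act, Spec.sig_cong h ((D.lift_cong hq _).1 hl), Spec.sig_repL]

variable [hn : ((Subgroup.zpowers (b : G)).subgroupOf
  (Subgroup.centralizer (Subgroup.zpowers (b : G) : Set G))).Normal]

omit D hπ hbp in
/-- The extraspecial subgroup of the quotient. -/
def rbar (R : Subgroup G) :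
    Subgroup (Subgroup.centralizer ({OddQuot.zbar (hzb b)} : Set _)) :=
  (R.subgroupOf (cz z (b : G))).map (OddQuot.phi (hzb b))

theorem phi_injOn {a c : cz z (b : G)} (ha : (a : G) ∈ R) (hc : (c : G) ∈ R)
    (e : OddQuot.phi (hzb b) a = OddQuot.phi (hzb b) c) : a = c := by
  obtain ⟨i, hi⟩ := (OddQuot.phi_eq_iff (hzb b) a c).1 e
  have hR : (b : G) ^ i ∈ R := by
    rw [show (b : G) ^ i = (a : G)⁻¹ * c by rw [hi, inv_mul_cancel_left]]
    exact mul_mem (inv_mem ha) hc
  haveI : Fact S.p.Prime := ⟨h.prime⟩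
  have h1 := eq_one_of_pow_eq_one D h.ne_two hR (by
    rw [← zpow_natCast, ← zpow_mul, mul_comm, zpow_mul, zpow_natCast, coe_pow_eq_one hbp, one_zpow])
  rw [h1, mul_one] at hi
  exact Subtype.ext hi.symm

theorem card_rbar : Nat.card (rbar (b := b) R) = 2 ^ 9 := by
  rw [← card_fix D hbp hπ]
  refine (Nat.card_eq_of_bijective (fun q : R.subgroupOf (cz z (b : G)) =>
    (⟨OddQuot.phi (hzb b) q, Subgroup.mem_map_of_mem _ q.2⟩ : rbar (b := b) R)) ⟨fun a c e => ?_, ?_⟩).symm
  · exact Subtype.ext (phi_injOn D hbp hπ a.2 c.2 (congrArg Subtype.val e))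
  · rintro ⟨_, q, hq, rfl⟩
    exact ⟨⟨q, hq⟩, rfl⟩

omit hn hπ hbp in
theorem z_mem_cz : z ∈ cz z (b : G) :=
  OddQuot.mem_cz_iff.2 ⟨rfl, hzb b⟩

theorem center_rbar (a : rbar (b := b) R) :
    a ∈ Subgroup.center (rbar (b := b) R) ↔
      (a : Subgroup.centralizer ({OddQuot.zbar (hzb b)} : Set _)) = 1 ∨
        (a : Subgroup.centralizer ({OddQuot.zbar (hzb b)} : Set _)) =
          OddQuot.phi (hzb b) ⟨z, z_mem_cz D⟩ := by
  constructor
  · intro ha
    obtain ⟨q, hq, hqa⟩ := a.2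
    have hcomm : ∀ p ∈ R, p * (b : G) = b * p → (q : G) * p = p * q := by
      intro p hp hpb
      have hpm : p ∈ cz z (b : G) := OddQuot.mem_cz_iff.2 ⟨D.good.le_cent p hp, hpb⟩
      have e := congrArg Subtype.val (Subgroup.mem_center_iff.1 ha
        ⟨_, Subgroup.mem_map_of_mem (OddQuot.phi (hzb b)) (show (⟨p, hpm⟩ : cz z (b : G)) ∈
          R.subgroupOf _ from hp)⟩)
      simp only [Subgroup.coe_mul] at e
      rw [← hqa, ← map_mul, ← map_mul] at e
      exact (congrArg Subtype.val (phi_injOn D hbp hπ (mul_mem hp hq) (mul_mem hq hp) e)).symm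
    rcases centre_fix D hbp hπ hq (OddQuot.mem_cz_iff.1 q.2).2 hcomm with r | r
    · left
      rw [← hqa, show q = 1 from Subtype.ext r, map_one]
    · right
      rw [← hqa]
      exact congrArg _ (Subtype.ext r)
  · intro hc
    rcases hc with r | r
    · rw [show a = 1 from Subtype.ext r]; exact one_mem _
    · refine Subgroup.mem_center_iff.2 fun c => Subtype.ext ?_
      obtain ⟨p, hp, hpc⟩ := c.2
      simp only [Subgroup.coe_mul]
      rw [r, ← hpc, ← map_mul, ← map_mul]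
      exact congrArg _ (Subtype.ext (D.good.le_cent p hp))

theorem rbar_extraspecial : IsExtraspecial 2 (rbar (b := b) R) := by
  set zr : rbar (b := b) R :=
    ⟨OddQuot.phi (hzb b) ⟨z, z_mem_cz D⟩, Subgroup.mem_map_of_mem _ D.good.x_mem⟩
  have hzc : zr ∈ Subgroup.center (rbar (b := b) R) := (center_rbar D hbp hπ _).2 (Or.inr rfl)
  have hz1 : zr ≠ 1 := fun e => D.good.x_ne (congrArg Subtype.val
    (phi_injOn D hbp hπ (a := ⟨z, z_mem_cz D⟩) (c := 1) D.good.x_mem (one_mem R)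
      ((congrArg Subtype.val e).trans (map_one _).symm)))
  have hall : ∀ x ∈ Subgroup.center (rbar (b := b) R), x = 1 ∨ x = zr :=
    fun x hx => ((center_rbar D hbp hπ x).1 hx).imp (fun e => Subtype.ext e) (fun e => Subtype.ext e)
  have hne : ∃ x y : rbar (b := b) R, x * y ≠ y * x := by
    by_contra hno
    push Not at hno
    have : Subgroup.center (rbar (b := b) R) = ⊤ :=
      eq_top_iff.2 fun x _ => Subgroup.mem_center_iff.2 fun y => hno y x
    have h2 : Nat.card (rbar (b := b) R) ≤ 2 := by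
      rw [← Subgroup.card_top, ← this]
      refine (Nat.card_mono (Set.toFinite _)
        (s := (Subgroup.center (rbar (b := b) R) : Set (rbar (b := b) R)))
        (t := {1, zr}) fun x hx => hall x hx).trans ?_
      rw [Nat.card_coe_set_eq]
      exact (Set.ncard_insert_le _ _).trans (by rw [Set.ncard_singleton])
    rw [card_rbar D hbp hπ] at h2
    norm_num at h2
  obtain ⟨x, y, hxy⟩ := hne
  refine LargeES.Heisenberg.isExtraspecial_of_props (IsPGroup.of_card (card_rbar D hbp hπ)) hz1 hzc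
    hall (fun a => ?_) (fun a c => ?_) hxy
  · obtain ⟨q, hq, hqa⟩ := a.2
    rw [center_rbar D hbp hπ, SubgroupClass.coe_pow, ← hqa, ← map_pow, pow_two]
    rcases D.good.sq_cases hq with r | r
    · left; rw [show q * q = 1 from Subtype.ext r, map_one]
    · right; exact congrArg _ (Subtype.ext r)
  · obtain ⟨p, hp', hpa⟩ := a.2
    obtain ⟨q, hq, hqb⟩ := c.2
    rw [center_rbar D hbp hπ]
    simp only [Subgroup.coe_mul, Subgroup.coe_inv]
    rw [← hpa, ← hqb, ← map_inv, ← map_inv, ← map_mul, ← map_mul, ← map_mul]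
    rcases D.comm_cases hp' hq with r | r
    · left; rw [show p * q * p⁻¹ * q⁻¹ = 1 from Subtype.ext r, map_one]
    · right; exact congrArg _ (Subtype.ext r)

end

/-- An element of odd order centralising two orthogonal conjugates centralises one moving `z` to the
other. -/
theorem exists_move_fix {G : Type*} [Group G] [Finite G] {z : G} {R : Subgroup G} {p : ℕ}
    [hp : Fact p.Prime] (hp2 : p ≠ 2) (D : MData z R) {g : G} (hgR : g * z * g⁻¹ ∈ R)
    (hne : g * z * g⁻¹ ≠ z) {x : G} (hxp : x ^ p = 1) (hxz : x * z = z * x)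
    (hxs : x * (g * z * g⁻¹) = g * z * g⁻¹ * x) :
    ∃ t : G, t * x = x * t ∧ t * z * t⁻¹ = g * z * g⁻¹ := by
  classical
  have S := setting_of_conj D.good hgR hne
  set R' := R.map (MulAut.conj g).toMonoidHom
  set s := g * z * g⁻¹ with hs
  have key : ∀ (X : Subgroup G) (u w : G), Good X u → Nat.card X = 2 ^ 25 → w ∈ X → w ≠ 1 → w ≠ u →
      x * u = u * x → x * w = w * x → ∃ q ∈ X, q * x = x * q ∧ q * w * q⁻¹ = w * u := by
    intro X u w hX hcard hw hw1 hwu hxu hxw
    obtain ⟨q₀, hq₀, hq₀w⟩ := hX.exists_move hw hw1 hwu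
    have hnorm : ∀ q ∈ X, x * q * x⁻¹ ∈ X := hX.norm x hxu
    have hnt : w ∉ Subgroup.zpowers u := fun e =>
      (eq_or_of_mem_zpowers hX.x_sq e).elim hw1 hwu
    have hcen := card_inf_centralizer hX hw hnt
    let Ω : Type _ := {q : G // q ∈ X ∧ q * w * q⁻¹ = w * u}
    have hcardΩ : Nat.card Ω = 2 ^ 24 := by
      let e : Ω ≃ ↥(X ⊓ Subgroup.centralizer ({w} : Set G)) :=
        { toFun := fun q => ⟨q₀⁻¹ * q.1, Subgroup.mem_inf.2 ⟨mul_mem (inv_mem hq₀) q.2.1,
            Subgroup.mem_centralizer_singleton_iff.2 (conj_eq_iff_comm.1 (by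
              calc q₀⁻¹ * q.1 * w * (q₀⁻¹ * q.1)⁻¹ = q₀⁻¹ * (q.1 * w * (q.1)⁻¹) * q₀ := by group
                _ = q₀⁻¹ * (q₀ * w * q₀⁻¹) * q₀ := by rw [q.2.2, hq₀w]
                _ = w := by group))⟩⟩
          invFun := fun c => ⟨q₀ * c.1, mul_mem hq₀ c.2.1, by
            calc q₀ * c.1 * w * (q₀ * c.1)⁻¹ = q₀ * (c.1 * w * (c.1)⁻¹) * q₀⁻¹ := by group
              _ = w * u := by
                rw [conj_eq_iff_comm.2 (Subgroup.mem_centralizer_singleton_iff.1 c.2.2), hq₀w]⟩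
          left_inv := fun q => Subtype.ext (by simp)
          right_inv := fun c => Subtype.ext (by simp) }
      rw [Nat.card_congr e]
      omega
    letI : MulAction (Subgroup.zpowers x) Ω :=
      { smul := fun y q => ⟨(y : G) * q.1 * (y : G)⁻¹, by
          obtain ⟨i, hi⟩ := (mem_powers_iff_mem_zpowers (x := x)).2 y.2
          have hy : (y : G) * u = u * y := hi ▸ ((show Commute x u from hxu).pow_left i).eq
          have hyw : (y : G) * w = w * y := hi ▸ ((show Commute x w from hxw).pow_left i).eq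
          refine ⟨hX.norm _ hy _ q.2.1, ?_⟩
          calc (y : G) * q.1 * (y : G)⁻¹ * w * ((y : G) * q.1 * (y : G)⁻¹)⁻¹
              = y * (q.1 * ((y : G)⁻¹ * w * y) * (q.1)⁻¹) * (y : G)⁻¹ := by group
            _ = y * (w * u) * (y : G)⁻¹ := by
                rw [mul_assoc (y : G)⁻¹, ← hyw, inv_mul_cancel_left, q.2.2]
            _ = w * u := by rw [← mul_assoc, hyw, mul_assoc w, hy, ← mul_assoc, mul_inv_cancel_right]⟩
        one_smul := fun q => Subtype.ext (show (1 : G) * q.1 * (1 : G)⁻¹ = q.1 by group)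
        mul_smul := fun a c q => Subtype.ext (show (a : G) * c * q.1 * ((a : G) * c)⁻¹ =
          (a : G) * ((c : G) * q.1 * (c : G)⁻¹) * (a : G)⁻¹ by group) }
    have hpg : IsPGroup p (Subgroup.zpowers x) := by
      rintro ⟨y, i, rfl⟩
      refine ⟨1, Subtype.ext ?_⟩
      show (x ^ i) ^ p ^ 1 = 1
      rw [pow_one, ← zpow_natCast (x ^ i), ← zpow_mul, mul_comm, zpow_mul, zpow_natCast, hxp, one_zpow]
    obtain ⟨q, hq⟩ := hpg.nonempty_fixed_point_of_prime_not_dvd_card (α := Ω) (by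
      rw [hcardΩ]
      exact fun hd => hp2 ((Nat.prime_dvd_prime_iff_eq hp.out Nat.prime_two).1
        (hp.out.dvd_of_dvd_pow hd)))
    have := congrArg Subtype.val (hq ⟨x, Subgroup.mem_zpowers x⟩)
    exact ⟨q.1, q.2.1, (conj_eq_iff_comm.1 this).symm, q.2.2⟩
  have hs1 : s ≠ 1 := S.hS.x_ne
  obtain ⟨q, -, hqx, hq⟩ := key R z s D.good D.card S.hs hs1 hne hxz hxs
  obtain ⟨q', -, hqx', hq'⟩ := key R' s z S.hS (D.transport g).card S.hz D.good.x_ne hne.symm hxs hxz
  have hzs : z * s = s * z := (D.good.le_cent s S.hs).symm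
  refine ⟨(q'⁻¹ * q)⁻¹, (Commute.inv_left
    ((show Commute q' x from hqx').inv_left.mul_left hqx)).eq, ?_⟩
  have e : q'⁻¹ * q * s * (q'⁻¹ * q)⁻¹ = z := by
    calc q'⁻¹ * q * s * (q'⁻¹ * q)⁻¹ = q'⁻¹ * (q * s * q⁻¹) * q' := by group
      _ = q'⁻¹ * (q' * z * q'⁻¹) * q' := by rw [hq, ← hzs, hq']
      _ = z := by group
  rw [inv_inv]
  conv_lhs => rw [← e]
  group

section

variable (B : Blocks S h β n T) {G : Type*} [Group G] [Finite G] {z : G} {R : Subgroup G}
  (D : MData z R) {b : ↥(Subgroup.centralizer ({z} : Set G))} (hbp : b ^ S.p = 1)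
  (hπ : D.π b = QuotientGroup.mk (Spec.k0 h))
  [hn : ((Subgroup.zpowers (b : G)).subgroupOf
    (Subgroup.centralizer (Subgroup.zpowers (b : G) : Set G))).Normal]

include B D hbp hπ

/-- The centraliser of `b` modulo `⟨b⟩` has the extraspecial setting of width 4 over `T`. -/
theorem exists_setting (hT2 : ∀ N : Subgroup T, N.Normal → IsPGroup 2 N → N = ⊥)
    {g : G} (hgR : g * z * g⁻¹ ∈ R) (hne : g * z * g⁻¹ ≠ z)
    (hbs : (b : G) * (g * z * g⁻¹) = g * z * g⁻¹ * b) :
    ∃ (z' : Subgroup.centralizer (Subgroup.zpowers (b : G) : Set G) ⧸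
        (Subgroup.zpowers (b : G)).subgroupOf (Subgroup.centralizer (Subgroup.zpowers (b : G) : Set G)))
      (Q : Subgroup (Subgroup.centralizer ({z'} : Set _))) (_ : Q.Normal),
      IsExtraspecialCentralizerSetting z' Q 4 ∧
      Nonempty ((Subgroup.centralizer ({z'} : Set _)) ⧸ Q ≃* T) := by
  haveI : Fact S.p.Prime := ⟨h.prime⟩
  haveI : Fact (Nat.Prime 2) := ⟨Nat.prime_two⟩
  have hp2 := h.ne_two
  have hbq := coe_pow_eq_one hbp
  have hzz : z * z = 1 := D.good.x_sq
  have hφ := OddQuot.phi_surjective hp2 hbq (hzb b) hzz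
  have hker : (OddQuot.phi (hzb b)).ker ≤ (toT B D hbp hπ).ker := by
    intro c hc
    rw [MonoidHom.mem_ker, toT_eq_one_iff]
    obtain ⟨i, hi⟩ := Subgroup.mem_zpowers_iff.1 ((OddQuot.phi_one_iff (hzb b) c).1 hc)
    exact ⟨i, by rw [← hi, mul_inv_cancel]; exact one_mem R⟩
  let θ := (OddQuot.phi (hzb b)).liftOfSurjective hφ ⟨toT B D hbp hπ, hker⟩
  have hθ : ∀ c, θ (OddQuot.phi (hzb b) c) = toT B D hbp hπ c :=
    fun c => MonoidHom.liftOfRightInverse_comp_apply _ _ _ _ c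
  have hθs : Function.Surjective θ := fun g => by
    obtain ⟨c, rfl⟩ := toT_surjective B D hbp hπ g
    exact ⟨_, hθ c⟩
  have hkθ : θ.ker = rbar (b := b) R := by
    ext q
    obtain ⟨c, rfl⟩ := hφ q
    rw [MonoidHom.mem_ker, hθ, toT_eq_one_iff]
    constructor
    · rintro ⟨i, hi⟩
      have hm : (c : G) * ((b : G) ^ i)⁻¹ ∈ cz z (b : G) :=
        mul_mem c.2 (inv_mem (zpow_mem (OddQuot.b_mem_cz (hzb b)) i))
      exact ⟨⟨_, hm⟩, hi, (OddQuot.phi_eq_iff (hzb b) _ _).2 ⟨i, by simp⟩⟩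
    · rintro ⟨d, hd, hdc⟩
      obtain ⟨i, hi⟩ := (OddQuot.phi_eq_iff (hzb b) d c).1 hdc
      exact ⟨i, by rw [hi, mul_inv_cancel_right]; exact hd⟩
  have hN : (rbar (b := b) R).Normal := hkθ ▸ MonoidHom.normal_ker θ
  have hcore : pCore 2 (Subgroup.centralizer ({OddQuot.zbar (hzb b)} : Set _)) = rbar (b := b) R := by
    refine le_antisymm ?_ (PSolvable.le_pCore (IsPGroup.of_card (card_rbar D hbp hπ)))
    haveI := PSolvable.pCore_characteristic (p := 2)
      (G := Subgroup.centralizer ({OddQuot.zbar (hzb b)} : Set _))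
    rw [← hkθ, ← Subgroup.map_eq_bot_iff]
    exact hT2 _ ((inferInstance :
      (pCore 2 (Subgroup.centralizer ({OddQuot.zbar (hzb b)} : Set _))).Normal).map θ hθs)
      ((PSolvable.pCore_isPGroup (p := 2)
        (G := Subgroup.centralizer ({OddQuot.zbar (hzb b)} : Set _))).map θ)
  have hchar : IsOfCharacteristicTwo (Subgroup.centralizer ({OddQuot.zbar (hzb b)} : Set _)) := by
    show Subgroup.centralizer (pCore 2 (Subgroup.centralizer ({OddQuot.zbar (hzb b)} : Set _)) :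
        Set (Subgroup.centralizer ({OddQuot.zbar (hzb b)} : Set _))) ≤
      pCore 2 (Subgroup.centralizer ({OddQuot.zbar (hzb b)} : Set _))
    rw [hcore]
    intro q hq
    obtain ⟨c, rfl⟩ := hφ q
    rw [← hkθ, MonoidHom.mem_ker, hθ]
    refine toT_of_centralizing B D hbp hπ fun p hp hpb => ?_
    have hpm : p ∈ cz z (b : G) := OddQuot.mem_cz_iff.2 ⟨D.good.le_cent p hp, hpb⟩
    have e := (Subgroup.mem_centralizer_iff.1 hq) _
      (Subgroup.mem_map_of_mem (OddQuot.phi (hzb b)) (show (⟨p, hpm⟩ : cz z (b : G)) ∈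
        R.subgroupOf _ from hp))
    rw [← map_mul, ← map_mul] at e
    obtain ⟨i, hi⟩ := (OddQuot.phi_eq_iff (hzb b) _ _).1 e
    simp only [Subgroup.coe_mul] at hi
    have hcR : (c : G) * p * (c : G)⁻¹ ∈ R := D.good.norm _ (OddQuot.mem_cz_iff.1 c.2).1 p hp
    have hbi : (b : G) ^ i = 1 := by
      refine eq_one_of_pow_eq_one D hp2 ?_ (by
        rw [← zpow_natCast, ← zpow_mul, mul_comm, zpow_mul, zpow_natCast, hbq, one_zpow])
      have hcb : Commute (c : G) ((b : G) ^ i) :=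
        Commute.zpow_right ((OddQuot.mem_cz_iff.1 c.2).2 : Commute (c : G) b) i
      have e' : (b : G) ^ i = p⁻¹ * ((c : G) * p * (c : G)⁻¹) := by
        rw [hi, mul_assoc p (c : G), hcb.eq]
        group
      rw [e']
      exact mul_mem (inv_mem hp) hcR
    rw [hbi, mul_one] at hi
    exact hi
  have hF : generalizedFittingSubgroup (Subgroup.centralizer ({OddQuot.zbar (hzb b)} : Set _)) =
      rbar (b := b) R :=
    (CharTwo.generalizedFitting_eq_of_charTwo hchar).trans hcore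
  refine ⟨OddQuot.zbar (hzb b), rbar (b := b) R, hN,
    ⟨?_, hF, rbar_extraspecial D hbp hπ, card_rbar D hbp hπ, ?_⟩,
    ⟨(QuotientGroup.quotientMulEquivOfEq hkθ.symm).trans
      (QuotientGroup.quotientKerEquivOfSurjective θ hθs)⟩⟩
  · refine orderOf_eq_prime ?_ (OddQuot.zbar_ne_one hp2 hbq (hzb b) D.good.x_ne hzz)
    rw [pow_two]
    exact congrArg QuotientGroup.mk (Subtype.ext hzz : OddQuot.zH (hzb b) * OddQuot.zH (hzb b) = 1)
  · obtain ⟨t, htb, htz⟩ := exists_move_fix hp2 D hgR hne hbq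
      (Subgroup.mem_centralizer_singleton_iff.1 b.2) hbs
    let a : cz z (b : G) :=
      ⟨g * z * g⁻¹, OddQuot.mem_cz_iff.2 ⟨D.good.le_cent _ hgR, hbs.symm⟩⟩
    obtain ⟨g', hg'⟩ := _root_.isConj_iff.1 ((OddQuot.isConj_phi_iff hp2 hbq (hzb b) D.good.x_ne hzz
      (x := a) (D.good.sq_cases hgR)).2 ⟨t, htb, htz⟩)
    refine ⟨g', ⟨by rw [hg']; exact (OddQuot.phi (hzb b) a).2, ?_⟩, ?_⟩
    · simp only [hg']
      exact Subgroup.mem_map_of_mem _ hgR
    · rw [hg']
      intro e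
      exact hne (congrArg Subtype.val
        (phi_injOn D hbp hπ (a := a) (c := ⟨z, z_mem_cz D⟩) hgR D.good.x_mem (Subtype.ext e)))

end

end Cfsg.Agent.Lib.MonsterType.OddType
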